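import Cfsg.Agent.Lib.OddBase.Basic

/-!
Derived series of subgroups inside the group, and stabilisers whose derived series reaches the
kernel of the action.
-/

set_option autoImplicit false
set_option linter.style.haveILetI false

open Subgroup
open scoped commutatorElement

namespace CfsgLib.DlStab

open CfsgLib.OddBase

universe u v w

variable {A : Type u} [Group A]

/-- The derived series of a subgroup, inside the group. -/
def ser (H : Subgroup A) : ℕ → Subgroup A
  | 0 => H
  | n + 1 => ⁅ser H n, ser H n⁆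

theorem ser_zero (H : Subgroup A) : ser H 0 = H := rfl

theorem ser_succ (H : Subgroup A) (n : ℕ) : ser H (n + 1) = ⁅ser H n, ser H n⁆ := rfl

theorem ser_add (H : Subgroup A) (a : ℕ) : ∀ b, ser H (a + b) = ser (ser H a) b
  | 0 => rfl
  | b + 1 => by rw [← add_assoc, ser_succ, ser_succ, ser_add H a b]

theorem ser_mono {H K : Subgroup A} (h : H ≤ K) : ∀ n, ser H n ≤ ser K n
  | 0 => h
  | n + 1 => commutator_mono (ser_mono h n) (ser_mono h n)

theorem ser_le_self (H : Subgroup A) : ∀ n, ser H n ≤ H
  | 0 => le_rfl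
  | n + 1 => (commutator_le_self _).trans (ser_le_self H n)

theorem ser_antitone (H : Subgroup A) {a b : ℕ} (h : a ≤ b) : ser H b ≤ ser H a := by
  obtain ⟨c, rfl⟩ := Nat.exists_eq_add_of_le h
  rw [ser_add]
  exact ser_le_self _ c

theorem map_ser {B : Type v} [Group B] (f : A →* B) (H : Subgroup A) :
    ∀ n, (ser H n).map f = ser (H.map f) n
  | 0 => rfl
  | n + 1 => by rw [ser_succ, ser_succ, map_commutator, map_ser f H n]

theorem normal_ser {H : Subgroup A} [H.Normal] : ∀ n, (ser H n).Normal
  | 0 => ‹_›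
  | n + 1 => by
    haveI := normal_ser (H := H) n
    exact commutator_normal _ _

theorem ser_eq_derivedSeries (H : Subgroup A) :
    ∀ n, ser H n = (derivedSeries H n).map H.subtype
  | 0 => by rw [ser_zero, derivedSeries_zero, ← MonoidHom.range_eq_map, range_subtype]
  | n + 1 => by rw [ser_succ, derivedSeries_succ, map_commutator, ser_eq_derivedSeries H n]

theorem ser_top : ∀ n, ser (⊤ : Subgroup A) n = derivedSeries A n
  | 0 => rfl
  | n + 1 => by rw [ser_succ, derivedSeries_succ, ser_top n]

theorem derivedSeries_eq_bot_iff (H : Subgroup A) (n : ℕ) :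
    derivedSeries H n = ⊥ ↔ ser H n = ⊥ := by
  rw [ser_eq_derivedSeries, map_eq_bot_iff_of_injective _ H.subtype_injective]

/-- Concatenation. -/
theorem ser_le_trans {H K L : Subgroup A} {a b : ℕ} (h₁ : ser H a ≤ K) (h₂ : ser K b ≤ L) :
    ser H (a + b) ≤ L := by
  rw [ser_add]
  exact (ser_mono h₁ b).trans h₂

theorem ser_le_of_le {H K : Subgroup A} {a b : ℕ} (h : ser H a ≤ K) (hab : a ≤ b) :
    ser H b ≤ K := (ser_antitone H hab).trans h

theorem ser_one_le {H N : Subgroup A} (h : ∀ x ∈ H, ∀ y ∈ H, ⁅x, y⁆ ∈ N) : ser H 1 ≤ N :=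
  commutator_le.2 h

/-- A bound on an image gives one on the group. -/
theorem ser_le_of_map {B : Type v} [Group B] (f : A →* B) {H : Subgroup A} {n : ℕ}
    (h : ser (H.map f) n = ⊥) : ser H n ≤ f.ker := by
  rw [← Subgroup.map_eq_bot_iff, map_ser, h]

theorem ser_top_le_of_map {B : Type v} [Group B] (f : A →* B) {n : ℕ}
    (h : derivedSeries f.range n = ⊥) : ser (⊤ : Subgroup A) n ≤ f.ker := by
  refine ser_le_of_map f ?_
  rw [← MonoidHom.range_eq_map, ← derivedSeries_eq_bot_iff, h]

section action

variable {V : Type w} [AddCommGroup V]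

/-- The elements acting trivially. -/
def ker (ρ : A →* AddMonoid.End V) : Subgroup A := ρ.toHomUnits.ker

theorem mem_ker {ρ : A →* AddMonoid.End V} {a : A} : a ∈ ker ρ ↔ ρ a = 1 := by
  rw [ker, MonoidHom.mem_ker, Units.ext_iff]
  rfl

instance ker_normal (ρ : A →* AddMonoid.End V) : (ker ρ).Normal :=
  inferInstanceAs ρ.toHomUnits.ker.Normal

/-- The stabiliser of a vector. -/
def stab (ρ : A →* AddMonoid.End V) (v : V) : Subgroup A where
  carrier := {a | ρ a v = v}
  one_mem' := by show ρ 1 v = v; rw [map_one]; rfl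
  mul_mem' {a b} ha hb := by
    simp only [Set.mem_ofPred_eq] at *
    rw [apply_mul, hb, ha]
  inv_mem' {a} ha := by
    simp only [Set.mem_ofPred_eq] at *
    conv_lhs => rw [← ha]
    rw [apply_inv_apply]

theorem mem_stab {ρ : A →* AddMonoid.End V} {v : V} {a : A} : a ∈ stab ρ v ↔ ρ a v = v := Iff.rfl

theorem stab_zero (ρ : A →* AddMonoid.End V) : stab ρ (0 : V) = ⊤ :=
  eq_top_iff.2 fun _ _ => map_zero _

/-- The derived series of the stabiliser reaches the kernel within `n` steps. -/
def Good (ρ : A →* AddMonoid.End V) (n : ℕ) (v : V) : Prop := ser (stab ρ v) n ≤ ker ρ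

theorem Good.mono {ρ : A →* AddMonoid.End V} {n m : ℕ} {v : V} (h : Good ρ n v) (hnm : n ≤ m) :
    Good ρ m v := ser_le_of_le h hnm

theorem good_of_top {ρ : A →* AddMonoid.End V} {n : ℕ} (h : ser ⊤ n ≤ ker ρ) (v : V) :
    Good ρ n v := (ser_mono le_top n).trans h

/-- Two vectors in one orbit. -/
def SameOrbit (ρ : A →* AddMonoid.End V) (v w : V) : Prop := ∃ a, ρ a v = w

theorem SameOrbit.refl (ρ : A →* AddMonoid.End V) (v : V) : SameOrbit ρ v v :=
  ⟨1, by rw [map_one]; rfl⟩

theorem SameOrbit.symm {ρ : A →* AddMonoid.End V} {v w : V} (h : SameOrbit ρ v w) :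
    SameOrbit ρ w v := by
  obtain ⟨a, rfl⟩ := h
  exact ⟨a⁻¹, apply_inv_apply ρ a v⟩

theorem SameOrbit.trans {ρ : A →* AddMonoid.End V} {v w x : V} (h : SameOrbit ρ v w)
    (h' : SameOrbit ρ w x) : SameOrbit ρ v x := by
  obtain ⟨a, rfl⟩ := h
  obtain ⟨b, rfl⟩ := h'
  exact ⟨b * a, apply_mul ρ b a v⟩

/-- `m` vectors in different orbits, all good. -/
def ManyGood (ρ : A →* AddMonoid.End V) (n m : ℕ) : Prop :=
  ∃ p : Fin m → V, (∀ i, Good ρ n (p i)) ∧ ∀ i j, SameOrbit ρ (p i) (p j) → i = j

end action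

section small

variable {G : Type u} [Group G] [Finite G] [Group.IsSolvable G]

theorem derived_lt (n : ℕ) (h : derivedSeries G n ≠ ⊥) :
    2 * Nat.card (derivedSeries G (n + 1)) ≤ Nat.card (derivedSeries G n) := by
  have hlt : derivedSeries G (n + 1) < derivedSeries G n :=
    Group.IsSolvable.commutator_lt_of_ne_bot h
  obtain ⟨k, hk⟩ := Subgroup.card_dvd_of_le hlt.le
  have h1 : Nat.card (derivedSeries G (n + 1)) ≠ Nat.card (derivedSeries G n) := fun e =>
    hlt.ne (Subgroup.eq_of_le_of_card_ge hlt.le e.ge)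
  have hk2 : 2 ≤ k := by
    rcases k with _ | _ | k
    · rw [mul_zero] at hk
      exact absurd hk Nat.card_pos.ne'
    · rw [zero_add, mul_one] at hk
      exact absurd hk.symm h1
    · omega
  rw [hk, mul_comm 2]
  exact Nat.mul_le_mul_left _ hk2

theorem comm_of_card_le_three {H : Subgroup G} (h : Nat.card H ≤ 3) :
    ∀ x ∈ H, ∀ y ∈ H, x * y = y * x := by
  intro x hx y hy
  by_cases hH : Nat.card H = 1
  · rw [Subgroup.card_eq_one.1 hH, mem_bot] at hx
    rw [hx, one_mul, mul_one]
  have hp : (Nat.card H).Prime := by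
    have := Nat.card_pos (α := H)
    rcases (show Nat.card H = 2 ∨ Nat.card H = 3 by omega) with e | e <;> rw [e]
    · exact Nat.prime_two
    · exact Nat.prime_three
  haveI := Fact.mk hp
  haveI : IsCyclic H := isCyclic_of_prime_card rfl
  obtain ⟨g, hg⟩ := IsCyclic.exists_generator (α := H)
  obtain ⟨i, hi⟩ := hg ⟨x, hx⟩
  obtain ⟨j, hj⟩ := hg ⟨y, hy⟩
  have : (⟨x, hx⟩ : H) * ⟨y, hy⟩ = ⟨y, hy⟩ * ⟨x, hx⟩ := by
    rw [← hi, ← hj]; exact (Commute.zpow_zpow_self g i j).eq
  exact congrArg Subtype.val this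

theorem derived_succ_eq_bot {n : ℕ} (h : Nat.card (derivedSeries G n) ≤ 3) :
    derivedSeries G (n + 1) = ⊥ := by
  rw [derivedSeries_succ, eq_bot_iff, commutator_le]
  intro x hx y hy
  rw [mem_bot, commutatorElement_eq_one_iff_mul_comm]
  exact comm_of_card_le_three h x hx y hy

/-- A soluble group of order at most six is metabelian. -/
theorem derived_two_of_card_le (h : Nat.card G ≤ 6) : derivedSeries G 2 = ⊥ := by
  refine derived_succ_eq_bot ?_
  by_cases h0 : derivedSeries G 0 = ⊥
  · have : derivedSeries G 1 = ⊥ := le_bot_iff.1 (h0 ▸ derivedSeries_antitone G (Nat.zero_le 1))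
    rw [this, Subgroup.card_bot]
    omega
  · have := derived_lt 0 h0
    rw [derivedSeries_zero, Subgroup.card_top, zero_add] at this
    omega

/-- A soluble group of order at most twenty-four has derived length at most three. -/
theorem derived_three_of_card_le (h : Nat.card G ≤ 24) : derivedSeries G 3 = ⊥ := by
  by_contra h3
  have hne : ∀ i, i ≤ 3 → derivedSeries G i ≠ ⊥ := fun i hi e =>
    h3 (le_bot_iff.1 (e ▸ derivedSeries_antitone G hi))
  have c0 := derived_lt 0 (hne 0 (by omega))
  have c1 := derived_lt 1 (hne 1 (by omega))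
  have c2 := derived_lt 2 (hne 2 (by omega))
  rw [derivedSeries_zero, Subgroup.card_top] at c0
  simp only [Nat.reduceAdd, zero_add] at c0 c1 c2
  set T := derivedSeries G 3 with hT
  set S := derivedSeries G 2 with hS
  have hTcard : Nat.card T ≤ 3 := by omega
  -- the derived group centralises the bottom term
  have hcent : derivedSeries G 1 ≤ centralizer (T : Set G) := by
    let f : G →* MulAut T := MulAut.conjNormal
    haveI hTn : IsCyclic T := by
      have := Nat.card_pos (α := T)
      have h1 : Nat.card T ≠ 1 := fun e => h3 (Subgroup.card_eq_one.1 e)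
      rcases (show Nat.card T = 2 ∨ Nat.card T = 3 by omega) with e | e
      · haveI := Fact.mk Nat.prime_two
        exact isCyclic_of_prime_card e
      · haveI := Fact.mk Nat.prime_three
        exact isCyclic_of_prime_card e
    have hcomm : ∀ a b : MulAut T, a * b = b * a := fun a b => by
      apply MulEquiv.ext
      intro t
      obtain ⟨i, hi⟩ := MonoidHom.map_cyclic (a.toMonoidHom)
      obtain ⟨j, hj⟩ := MonoidHom.map_cyclic (b.toMonoidHom)
      show a (b t) = b (a t)
      have hi' : ∀ x, a x = x ^ i := hi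
      have hj' : ∀ x, b x = x ^ j := hj
      rw [hi', hj', hi', hj', ← zpow_mul, ← zpow_mul, mul_comm]
    rw [derivedSeries_one, _root_.commutator_def, commutator_le]
    intro x _ y _
    rw [mem_centralizer_iff]
    intro t ht
    have : f ⁅x, y⁆ = 1 := by
      rw [map_commutatorElement, commutatorElement_eq_one_iff_mul_comm]
      exact hcomm _ _
    have h1 : (f ⁅x, y⁆ ⟨t, ht⟩ : G) = t := by rw [this]; rfl
    rw [MulAut.conjNormal_apply] at h1
    exact (eq_mul_inv_iff_mul_eq.1 h1.symm)
  -- so the middle term is abelian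
  refine h3 ?_
  rw [hT, derivedSeries_succ, eq_bot_iff, commutator_le]
  intro x hx y hy
  rw [mem_bot, commutatorElement_eq_one_iff_mul_comm]
  by_cases hsub : ∀ z ∈ S, z ∈ T
  · exact comm_of_card_le_three hTcard x (hsub x hx) y (hsub y hy)
  push Not at hsub
  obtain ⟨z, hz, hzT⟩ := hsub
  haveI : (T.subgroupOf S).Normal := Subgroup.normal_subgroupOf
  have hidx : (T.subgroupOf S).index * Nat.card T = Nat.card S := by
    rw [← Subgroup.relIndex, ← relIndex_bot_left, ← relIndex_bot_left (H := S), mul_comm]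
    exact relIndex_mul_relIndex _ _ _ bot_le (derivedSeries_antitone G (by omega))
  have hTpos := Nat.card_pos (α := T)
  have hT1 : Nat.card T ≠ 1 := fun e => h3 (Subgroup.card_eq_one.1 e)
  haveI : IsCyclic (S ⧸ T.subgroupOf S) := by
    have hne1 : (T.subgroupOf S).index ≠ 1 := fun e => by
      rw [Subgroup.index_eq_one] at e
      exact hzT (show (⟨z, hz⟩ : S) ∈ T.subgroupOf S from e ▸ mem_top _)
    have hpos : (T.subgroupOf S).index ≠ 0 := FiniteIndex.index_ne_zero
    have hle : (T.subgroupOf S).index ≤ 3 := by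
      by_contra h4
      have : 4 * 2 ≤ (T.subgroupOf S).index * Nat.card T := Nat.mul_le_mul (by omega) (by omega)
      omega
    rcases (show (T.subgroupOf S).index = 2 ∨ (T.subgroupOf S).index = 3 by omega) with e | e
    · haveI := Fact.mk Nat.prime_two
      exact isCyclic_of_prime_card (p := 2) (by rw [← Subgroup.index_eq_card]; exact e)
    · haveI := Fact.mk Nat.prime_three
      exact isCyclic_of_prime_card (p := 3) (by rw [← Subgroup.index_eq_card]; exact e)
  have hker : (QuotientGroup.mk' (T.subgroupOf S)).ker ≤ Subgroup.center S := by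
    rw [QuotientGroup.ker_mk']
    intro t ht
    rw [Subgroup.mem_center_iff]
    intro g
    exact Subtype.ext (mem_centralizer_iff.1
      (hcent (derivedSeries_antitone G (by omega : 1 ≤ 2) g.2)) t ht).symm
  have := commutative_of_cyclic_center_quotient (QuotientGroup.mk' (T.subgroupOf S)) hker
  exact congrArg Subtype.val (this ⟨x, hx⟩ ⟨y, hy⟩)

end small

end CfsgLib.DlStab
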