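import Mathlib

/-!
A coarse bound for the derived length of soluble completely reducible linear groups on few vectors,
and the arithmetic making it stable under the recursion.
-/

set_option autoImplicit false

namespace CfsgLib.DlStab

/-- The bound, as a function of the number of vectors. -/
def dlBound (n : ℕ) : ℕ :=
  if n ≤ 2 then 0 else if n ≤ 3 then 1 else if n ≤ 8 then 2 else if n = 16 then 3
  else if n < 64 then 4 else if n < 4096 then 6 else 8

theorem dlBound_le (n : ℕ) : dlBound n ≤ 8 := by
  unfold dlBound; split_ifs <;> omega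

theorem dlBound_le_six {n : ℕ} (h : n < 4096) : dlBound n ≤ 6 := by
  unfold dlBound; split_ifs <;> omega

theorem dlBound_le_four {n : ℕ} (h : n < 64) : dlBound n ≤ 4 := by
  unfold dlBound; split_ifs <;> omega

theorem dlBound_le_two {n : ℕ} (h : n ≤ 8) : dlBound n ≤ 2 := by
  unfold dlBound; split_ifs <;> omega

theorem dlBound_le_three {n : ℕ} (h : n = 16) : dlBound n ≤ 3 := by
  subst h; decide

theorem one_le_dlBound {n : ℕ} (h : 3 ≤ n) : 1 ≤ dlBound n := by
  unfold dlBound; split_ifs <;> omega

theorem two_le_dlBound {n : ℕ} (h : 4 ≤ n) : 2 ≤ dlBound n := by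
  unfold dlBound; split_ifs <;> omega

/-- Passing to a factor. -/
theorem dlBound_mono {a b : ℕ} (ha : 1 ≤ a) (hb : 2 ≤ b) : dlBound a ≤ dlBound (a * b) := by
  have h2 : a * 2 ≤ a * b := Nat.mul_le_mul_left a hb
  by_cases h : a * b = 16
  · have : a ≤ 8 := by omega
    rw [h]
    exact (dlBound_le_two this).trans (by decide)
  · unfold dlBound
    split_ifs <;> omega

theorem two_pow_le {m b : ℕ} (hm : 2 ≤ m) : 2 ^ b ≤ m ^ b := Nat.pow_le_pow_left hm b

/-- Blocks permuted by a primitive group. -/
theorem dlBound_blocks {m b : ℕ} (hm : 2 ≤ m) (hb : 2 ≤ b) (h : m ^ b < 32768) :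
    dlBound m + (1 + dlBound b) ≤ dlBound (m ^ b) := by
  have hb14 : b < 15 := by
    by_contra hc
    have := (Nat.pow_le_pow_right (by norm_num : 1 ≤ 2) (not_lt.1 hc)).trans (two_pow_le (b := b) hm)
    omega
  have bnd : ∀ c B : ℕ, b = c → 32768 ≤ B ^ c → m < B := by
    intro c B hbc hB
    subst hbc
    by_contra hc
    have := Nat.pow_le_pow_left (not_lt.1 hc) b
    omega
  interval_cases b
  · have := bnd 2 182 rfl (by norm_num)
    have key : ∀ x, x < 182 → 2 ≤ x → dlBound x + (1 + dlBound 2) ≤ dlBound (x ^ 2) := by
      intro x hx hx2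
      simp only [dlBound, pow_two]
      interval_cases x <;> decide
    exact key m this hm
  · have := bnd 3 32 rfl (by norm_num)
    interval_cases m <;> decide
  · have := bnd 4 14 rfl (by norm_num)
    interval_cases m <;> decide
  · have := bnd 5 8 rfl (by norm_num)
    interval_cases m <;> decide
  · have := bnd 6 6 rfl (by norm_num)
    interval_cases m <;> decide
  · have := bnd 7 5 rfl (by norm_num)
    interval_cases m <;> decide
  · have := bnd 8 4 rfl (by norm_num)
    interval_cases m <;> decide
  · have := bnd 9 4 rfl (by norm_num)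
    interval_cases m <;> decide
  · have := bnd 10 3 rfl (by norm_num)
    interval_cases m <;> decide
  · have := bnd 11 3 rfl (by norm_num)
    interval_cases m <;> decide
  · have := bnd 12 3 rfl (by norm_num)
    interval_cases m <;> decide
  · have := bnd 13 3 rfl (by norm_num)
    interval_cases m <;> decide
  · have := bnd 14 3 rfl (by norm_num)
    interval_cases m <;> decide

/-- The layer over the field with `q` elements. -/
theorem dlBound_layer {e l q : ℕ} (he : 2 ≤ e) (hel : e ≤ l) (hq : 3 ≤ q)
    (h3 : 3 ∣ e → 4 ≤ q) (h2 : 2 ∣ e → Odd q) (h : q ^ l < 32768) :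
    max (dlBound (e ^ 2)) 1 + 2 ≤ dlBound (q ^ l) := by
  have hq0 : 0 < q := by omega
  have hqe : q ^ e ≤ q ^ l := Nat.pow_le_pow_right hq0 hel
  have h3e : 3 ^ e ≤ q ^ e := Nat.pow_le_pow_left hq e
  have he9 : e < 10 := by
    by_contra hc
    have := Nat.pow_le_pow_right (by norm_num : 1 ≤ 3) (not_lt.1 hc)
    omega
  interval_cases e
  · -- two
    have h9 : 9 ≤ q ^ l := by omega
    have h16 : q ^ l ≠ 16 := fun e16 => by
      have := (h2 dvd_rfl).pow (n := l)
      rw [e16] at this
      exact absurd this (by decide)
    have : 4 ≤ dlBound (q ^ l) := by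
      unfold dlBound; split_ifs <;> omega
    exact le_trans (by decide) this
  · have h64 : 64 ≤ q ^ l :=
      le_trans (le_trans (by norm_num) (Nat.pow_le_pow_left (h3 dvd_rfl) 3)) hqe
    have : 6 ≤ dlBound (q ^ l) := by
      unfold dlBound; split_ifs <;> omega
    exact le_trans (by decide) this
  all_goals first
    | (have h64 : 64 ≤ q ^ l := by omega
       have : 6 ≤ dlBound (q ^ l) := by
         unfold dlBound; split_ifs <;> omega
       exact le_trans (by decide) this)
    | (have h4096 : 4096 ≤ q ^ l := by omega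
       have : 8 ≤ dlBound (q ^ l) := by
         unfold dlBound; split_ifs <;> omega
       exact le_trans (by decide) this)

end CfsgLib.DlStab
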