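import Cfsg.Agent.Lib.DlStab.Perm

/-!
Colourings of the cosets of a maximal subgroup and vectors glued from colours.
-/

set_option autoImplicit false
set_option linter.style.haveILetI false

open Subgroup

namespace CfsgLib.DlStab

open CfsgLib.OddBase

universe u

variable {A : Type u} [Group A] {M : Subgroup A}

/-- The elements preserving a colouring. -/
def colStab {k : ℕ} (f : A ⧸ M → Fin k) : Subgroup A where
  carrier := {a | ∀ x, f (a • x) = f x}
  one_mem' x := by rw [one_smul]
  mul_mem' {a b} ha hb x := by rw [mul_smul, ha, hb]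
  inv_mem' {a} ha x := by
    have h := ha (a⁻¹ • x)
    rw [smul_inv_smul] at h
    exact h.symm

theorem mem_colStab {k : ℕ} {f : A ⧸ M → Fin k} {a : A} :
    a ∈ colStab f ↔ ∀ x, f (a • x) = f x := Iff.rfl

variable [Fintype (A ⧸ M)]

/-- A colour class. -/
def cls {k : ℕ} (f : A ⧸ M → Fin k) (c : Fin k) : Finset (A ⧸ M) :=
  Finset.univ.filter fun x => f x = c

theorem mem_cls {k : ℕ} {f : A ⧸ M → Fin k} {c : Fin k} {x : A ⧸ M} : x ∈ cls f c ↔ f x = c := by
  simp [cls]

theorem cls_inv {k : ℕ} (f : A ⧸ M → Fin k) (c : Fin k) :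
    ∀ g ∈ colStab f, ∀ x ∈ cls f c, g • x ∈ cls f c := by
  intro g hg x hx
  rw [mem_cls] at hx ⊢
  rw [mem_colStab.1 hg, hx]

/-- Classes of at most two or three points. -/
theorem fix_cls [Finite A] [Group.IsSolvable A] {k : ℕ} (f : A ⧸ M → Fin k) {c : Fin k} {a : ℕ}
    (hc : ((cls f c).card ≤ 2 ∧ 1 ≤ a) ∨ ((cls f c).card ≤ 3 ∧ 2 ≤ a)) {g : A}
    (hg : g ∈ ser (colStab f) a) {x : A ⧸ M} (hx : f x = c) : g • x = x := by
  obtain ⟨f1, f2, -⟩ := fix_set_small (colStab f) (cls f c) (cls_inv f c)
  rcases hc with ⟨h, ha⟩ | ⟨h, ha⟩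
  · exact f1 h g (ser_antitone _ ha hg) x (mem_cls.2 hx)
  · exact f2 h g (ser_antitone _ ha hg) x (mem_cls.2 hx)

theorem fix_of_card_one {k : ℕ} (f : A ⧸ M → Fin k) {c : Fin k} (hc : (cls f c).card ≤ 1) {g : A}
    (hg : g ∈ colStab f) {x : A ⧸ M} (hx : f x = c) : g • x = x :=
  Finset.card_le_one.1 hc _ (cls_inv f c g hg x (mem_cls.2 hx)) _ (mem_cls.2 hx)

theorem ser_colStab_le_core [Finite A] [Group.IsSolvable A] {k : ℕ} (f : A ⧸ M → Fin k)
    (s : Finset (A ⧸ M)) (hbase : ∀ a : A, (∀ x ∈ s, a • x = x) → a ∈ M.normalCore) (a : ℕ)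
    (hsmall : ∀ x ∈ s, ((cls f (f x)).card ≤ 2 ∧ 1 ≤ a) ∨ ((cls f (f x)).card ≤ 3 ∧ 2 ≤ a)) :
    ser (colStab f) a ≤ M.normalCore :=
  fun g hg => hbase g fun x hx => fix_cls f (hsmall x hx) hg rfl

variable {V : Type u} [AddCommGroup V] {ρ : A →* AddMonoid.End V} (B : Blocks ρ (A ⧸ M))
  {k : ℕ} (p : Fin k → block B)
  (hp : ∀ i j, SameOrbit (blockRep B) (p i) (p j) → i = j)

/-- The vector with the given colours. -/
noncomputable def colVec (f : A ⧸ M → Fin k) : V := glue B fun x => p (f x)

include hp in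
theorem stab_colVec_le (f : A ⧸ M → Fin k) : stab ρ (colVec B p f) ≤ colStab f :=
  fun _ ha x => colour_preserved B p hp ha x

include hp in
theorem good_colVec (f : A ⧸ M → Fin k) (n : ℕ)
    (hc : ∀ x, ∃ a d, a + d ≤ n ∧ Good (blockRep B) d (p (f x)) ∧
      ∀ g ∈ ser (colStab f) a, g • x = x) : Good ρ n (colVec B p f) :=
  good_glue B _ n fun x => by
    obtain ⟨a, d, h1, h2, h3⟩ := hc x
    exact ⟨a, d, h1, h2, fun g hg => h3 g (ser_mono (stab_colVec_le B p hp f) a hg)⟩

include hp in
/-- Orbits are separated by the sizes of the classes. -/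
theorem card_cls_eq_of_sameOrbit {f f' : A ⧸ M → Fin k}
    (h : SameOrbit ρ (colVec B p f) (colVec B p f')) (c : Fin k) :
    (cls f c).card = (cls f' c).card := by
  obtain ⟨a, ha⟩ := h
  have h1 := colour_eq_of_sameOrbit B p hp ha
  refine Finset.card_nbij' (fun x => a • x) (fun x => a⁻¹ • x) ?_ ?_ ?_ ?_
  · intro x hx
    rw [Finset.mem_coe, mem_cls] at hx ⊢
    rw [h1, hx]
  · intro x hx
    rw [Finset.mem_coe, mem_cls] at hx ⊢
    rw [← h1 (a⁻¹ • x), smul_inv_smul, hx]
  · intro x _; exact inv_smul_smul _ _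
  · intro x _; exact smul_inv_smul _ _

include hp in
/-- Five colourings with different class sizes. -/
theorem manyGood_of_cards (f : Fin 5 → A ⧸ M → Fin k) (N : Fin 5 → Fin k → ℕ)
    (hN : ∀ i c, (cls (f i) c).card = N i c) (hinj : Function.Injective N)
    (hgood : ∀ i, Good ρ 9 (colVec B p (f i))) : ManyGood ρ 9 5 :=
  ⟨fun i => colVec B p (f i), hgood, fun i j h =>
    hinj (funext fun c => by rw [← hN, ← hN, card_cls_eq_of_sameOrbit B p hp h])⟩

include hp in
/-- Five colours which only elements fixing every coset preserve. -/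
theorem manyGood_of_five [Finite A] [Group.IsSolvable A] {col : A ⧸ M → Fin k} (hk : k = 5)
    (hcol : ∀ a : A, (∀ x, col (a • x) = col x) → ∀ x : A ⧸ M, a • x = x) (hM : M ≠ ⊤)
    (hgood : ∀ i, Good (blockRep B) 9 (p i)) : ManyGood ρ 9 5 := by
  classical
  subst hk
  -- the permutations of the colours induced by the group
  let P : Subgroup (A × Equiv.Perm (Fin 5)) :=
    { carrier := {q | ∀ x, col (q.1 • x) = q.2 (col x)}
      one_mem' := fun x => by simp
      mul_mem' := fun {q r} hq hr x => by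
        show col ((q.1 * r.1) • x) = q.2 (r.2 (col x))
        rw [mul_smul, hq, hr]
      inv_mem' := fun {q} hq x => by
        show col (q.1⁻¹ • x) = q.2⁻¹ (col x)
        have h := hq (q.1⁻¹ • x)
        rw [smul_inv_smul] at h
        rw [h, ← Equiv.Perm.mul_apply, inv_mul_cancel, Equiv.Perm.one_apply] }
  let π₁ : P →* A := (MonoidHom.fst A (Equiv.Perm (Fin 5))).comp P.subtype
  let π₂ : P →* Equiv.Perm (Fin 5) := (MonoidHom.snd A (Equiv.Perm (Fin 5))).comp P.subtype
  -- two colours at least occur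
  obtain ⟨x, y, hxy⟩ : ∃ x y, col x ≠ col y := by
    by_contra h
    push Not at h
    refine hM (eq_top_iff.2 fun a _ => ?_)
    have h1 := hcol a (fun x => h _ _) ((1 : A) : A ⧸ M)
    rw [MulAction.Quotient.smul_coe, QuotientGroup.eq, smul_eq_mul, mul_one, mul_one] at h1
    exact inv_mem_iff.1 h1
  haveI : Group.IsSolvable P := by
    haveI : Group.IsSolvable π₁.range :=
      Group.isSolvable_of_isSolvable_injective (f := π₁.range.subtype) Subtype.val_injective
    -- the unused colours
    let s : Finset (Fin 5) := ({col x, col y} : Finset (Fin 5))ᶜ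
    have hs : s.card ≤ 4 := by
      rw [Finset.card_compl, Finset.card_pair hxy]
      simp
    have hfix : ∀ q : π₁.ker, ∀ c ∉ s, (π₂ q) c = c := by
      rintro ⟨⟨⟨a, σ⟩, hq⟩, hk⟩ c hc
      have ha : a = 1 := hk
      subst ha
      simp only [s, Finset.mem_compl, not_not, Finset.mem_insert, Finset.mem_singleton] at hc
      show σ c = c
      rcases hc with rfl | rfl
      · have := hq x; rw [one_smul] at this; exact this.symm
      · have := hq y; rw [one_smul] at this; exact this.symm
    haveI : Group.IsSolvable (Equiv.Perm s) :=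
      CfsgLib.InvCharSmall.isSolvable_perm_of_card_le_four
        (by rw [Nat.card_eq_fintype_card, Fintype.card_coe]; exact hs)
    haveI : Group.IsSolvable π₁.ker := by
      let g : π₁.ker →* Equiv.Perm s :=
        { toFun := fun q => (π₂ q).subtypePerm (p := fun c => c ∈ s) fun c => by
            have h1 : c ∈ s → π₂ q c ∈ s := fun hc => by
              by_contra h
              have he : π₂ q c = c := (π₂ q).injective (hfix q _ h)
              exact h (by rw [he]; exact hc)
            have h2 : π₂ q c ∈ s → c ∈ s := fun hc => by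
              by_contra h
              exact h (hfix q c h ▸ hc)
            first | exact ⟨h1, h2⟩ | exact ⟨h2, h1⟩
          map_one' := Equiv.ext fun c => Subtype.ext (by simp)
          map_mul' := fun q r => Equiv.ext fun c => Subtype.ext (by
            first | rfl | simp [Equiv.Perm.subtypePerm_apply] | (simp; rfl)) }
      refine Group.isSolvable_of_isSolvable_injective (f := g) ?_
      rw [injective_iff_map_eq_one]
      intro q hq
      have h2 : π₂ q = 1 := Equiv.ext fun c => by
        by_cases hc : c ∈ s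
        · exact congrArg Subtype.val (Equiv.congr_fun hq ⟨c, hc⟩)
        · exact hfix q c hc
      exact Subtype.ext (Subtype.ext (Prod.ext q.2 h2))
    exact Group.isSolvable_of_ker_le_range π₁.ker.subtype π₁.rangeRestrict
      (by rw [MonoidHom.ker_rangeRestrict, Subgroup.range_subtype])
  haveI : Group.IsSolvable π₂.range := Group.isSolvable_of_surjective π₂.rangeRestrict_surjective
  have h5 : 5 ≤ π₂.range.index := five_le_index
  rw [Subgroup.index] at h5
  let e := Finite.equivFin (Equiv.Perm (Fin 5) ⧸ π₂.range)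
  let σ : Fin 5 → Equiv.Perm (Fin 5) := fun i => (e.symm (Fin.castLE h5 i)).out
  refine ⟨fun i => colVec B p fun x => σ i (col x), fun i => good_colVec B p hp _ 9 fun x =>
    ⟨0, 9, le_rfl, hgood _, fun g hg => hcol g (fun z => ?_) x⟩, fun i j h => ?_⟩
  · exact (σ i).injective (hg z)
  · obtain ⟨a, ha⟩ := h
    have h1 := colour_eq_of_sameOrbit B p hp ha
    have hmem : (σ j)⁻¹ * σ i ∈ π₂.range := by
      refine ⟨⟨(a, (σ j)⁻¹ * σ i), fun z => ?_⟩, rfl⟩
      show col (a • z) = (σ j)⁻¹ (σ i (col z))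
      have h2 : σ j (col (a • z)) = σ i (col z) := h1 z
      rw [← h2]
      exact ((σ j).symm_apply_apply _).symm
    have h3 : e.symm (Fin.castLE h5 j) = e.symm (Fin.castLE h5 i) := by
      rw [← Quotient.out_eq (e.symm (Fin.castLE h5 j)), ← Quotient.out_eq (e.symm (Fin.castLE h5 i))]
      exact Quotient.sound (QuotientGroup.leftRel_apply.2 hmem)
    exact Fin.castLE_injective h5 (e.symm.injective h3.symm)

end CfsgLib.DlStab
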