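import Cfsg.Agent.Lib.DlStab.Scalar
import Cfsg.Agent.Lib.TripleBase.Classify

/-!
An element of prime order in the layer, outside the scalars, and its fixed vector.
-/

set_option autoImplicit false
set_option linter.style.haveILetI false

open Subgroup
open scoped commutatorElement

namespace CfsgLib.DlStab

open CfsgLib.OddBase

universe u

variable {A : Type u} [Group A] [Finite A] {U E : Subgroup A}

/-- Extract a root of an element of the scalars. -/
theorem exists_root_of_zpow [U.Normal] (hL : Layer U E) {c g : A} (hc : c ∈ U) (hg : g ∈ E)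
    (hgU : g ∉ U) {r : ℕ} {i : ℤ} (hgr : g ^ r = c ^ i) (hi : (r : ℤ) ∣ i) :
    ∃ h ∈ E, h ∉ U ∧ h ^ r = 1 := by
  obtain ⟨k, rfl⟩ := hi
  refine ⟨g * c ^ (-k), E.mul_mem hg (hL.le (U.zpow_mem hc _)), fun h => hgU ?_, ?_⟩
  · have := U.mul_mem h (U.inv_mem (U.zpow_mem hc (-k)))
    rwa [mul_inv_cancel_right] at this
  · have hcomm : Commute g (c ^ (-k)) := (hL.commute (U.zpow_mem hc _) hg).symm
    rw [hcomm.mul_pow, hgr, ← zpow_natCast (c ^ (-k)) r, ← zpow_mul, ← zpow_add,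
      show (r : ℤ) * k + -k * r = 0 by ring, zpow_zero]

/-- An element of order `r` outside the scalars. -/
theorem exists_torsion [U.Normal] [IsCyclic U] (hL : Layer U E) {r : ℕ} (hr : r.Prime) {x y : A}
    (hx : x ∈ E) (hy : y ∈ E) (hxU : x ∉ U) (hxr : x ^ r ∈ U) (hyr : y ^ r ∈ U)
    (hind : ∀ t : ℕ, x ^ t * y ∉ U) (hpow : ∀ t : ℕ, (x ^ t * y) ^ r = x ^ (t * r) * y ^ r) :
    ∃ g ∈ E, g ∉ U ∧ g ^ r = 1 := by
  haveI := Fact.mk hr
  obtain ⟨c, hc⟩ := IsCyclic.exists_generator (α := U)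
  obtain ⟨i, hi⟩ := mem_zpowers_iff.1 (hc ⟨x ^ r, hxr⟩)
  obtain ⟨j, hj⟩ := mem_zpowers_iff.1 (hc ⟨y ^ r, hyr⟩)
  have hi' : x ^ r = (c : A) ^ i := (congrArg Subtype.val hi).symm
  have hj' : y ^ r = (c : A) ^ j := (congrArg Subtype.val hj).symm
  by_cases hri : (r : ℤ) ∣ i
  · exact exists_root_of_zpow hL c.2 hx hxU hi' hri
  have hi0 : (i : ZMod r) ≠ 0 := fun e => hri ((ZMod.intCast_zmod_eq_zero_iff_dvd i r).1 e)
  set t : ℕ := (-(j : ZMod r) / (i : ZMod r)).val with ht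
  have h0 : (r : ℤ) ∣ i * t + j := by
    rw [← ZMod.intCast_zmod_eq_zero_iff_dvd]
    push_cast
    rw [ht, ZMod.natCast_zmod_val, mul_div_cancel₀ _ hi0, neg_add_cancel]
  refine exists_root_of_zpow hL c.2 (E.mul_mem (E.pow_mem hx t) hy) (hind t) ?_ h0
  rw [hpow, mul_comm t r, pow_mul, hi', hj', ← zpow_natCast ((c : A) ^ i) t, ← zpow_mul,
    ← zpow_add]

variable {V : Type u} [AddCommGroup V] [Finite V] [Nontrivial V] {ρ : A →* AddMonoid.End V}

/-- Such an element fixes a nonzero vector. -/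
theorem exists_fixed (h : Quasi ρ U) (hL : Layer U E) {r : ℕ} (hr : r.Prime)
    (hrU : r ∣ Nat.card U) {g : A} (hg : g ∈ E) (hgU : g ∉ U) (hgr : g ^ r = 1) :
    ∃ v : V, v ≠ 0 ∧ ρ g v = v := by
  haveI := h.normal
  by_contra hcon
  push Not at hcon
  obtain ⟨y, hy, hne⟩ := hL.exists_comm_ne_one hg hgU
  set z := ⁅y, g⁆ with hz
  have hzU : z ∈ U := hL.comm y hy g hg
  have hz1 : z ≠ 1 := fun e => hne (commutatorElement_eq_one_iff_mul_comm.2
    (commutatorElement_eq_one_iff_mul_comm.1 e).symm)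
  have hzr : z ^ r = 1 := by
    rw [hz, ← TripleBase.comm_pow_right hL hy hg, hgr, commutatorElement_one_right]
  haveI := Fact.mk hr
  have hoz : orderOf z = r := orderOf_eq_prime hzr hz1
  -- the trace vanishes
  have htrace : ∀ (a : A) (v : V), a ^ r = 1 → (∀ w : V, w ≠ 0 → ρ a w ≠ w) →
      ∑ i ∈ Finset.range r, ρ (a ^ i) v = 0 := by
    intro a v har hfp
    by_contra hs
    refine hfp _ hs ?_
    have h1 : ρ a (∑ i ∈ Finset.range r, ρ (a ^ i) v) = ∑ i ∈ Finset.range r, ρ (a ^ (i + 1)) v := by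
      rw [map_sum]
      exact Finset.sum_congr rfl fun i _ => by rw [pow_succ', apply_mul]
    rw [h1]
    have h2 := Finset.sum_range_succ (fun i => ρ (a ^ i) v) r
    have h3 := Finset.sum_range_succ' (fun i => ρ (a ^ i) v) r
    rw [h2, har, pow_zero] at h3
    exact (add_right_cancel h3).symm
  have hconjpow : ∀ j : ℕ, y ^ j * g * (y ^ j)⁻¹ = z ^ j * g := by
    intro j
    have h1 : ⁅y ^ j, g⁆ = z ^ j := TripleBase.comm_pow_left hL hy hg j
    rw [← h1, commutatorElement_def]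
    group
  have hj : ∀ (j : ℕ) (v : V), ∑ i ∈ Finset.range r, ρ ((z ^ i) ^ j * g ^ i) v = 0 := by
    intro j v
    have hc : Commute (z ^ j) g := hL.commute (U.pow_mem hzU j) hg
    have h1 := htrace (z ^ j * g) v (by rw [hc.mul_pow, hgr, ← pow_mul, mul_comm j r, pow_mul, hzr,
      one_pow, one_mul]) fun w hw e => by
        rw [← hconjpow, apply_mul, apply_mul] at e
        have h2 := congrArg (ρ (y ^ j)⁻¹) e
        rw [apply_inv_apply] at h2
        exact hcon _ (fun e0 => hw (apply_injective ρ _ (e0.trans (map_zero _).symm))) h2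
    rw [← h1]
    refine Finset.sum_congr rfl fun i _ => ?_
    rw [hc.mul_pow, ← pow_mul, ← pow_mul, mul_comm i j]
  obtain ⟨v, hv⟩ := exists_ne (0 : V)
  have h0 : ∑ j ∈ Finset.range r, ∑ i ∈ Finset.range r, ρ ((z ^ i) ^ j * g ^ i) v = 0 :=
    Finset.sum_eq_zero fun j _ => hj j v
  rw [Finset.sum_comm, Finset.sum_eq_single 0] at h0
  · simp only [pow_zero, one_pow, one_mul, map_one] at h0
    have h0' : r • v = 0 := by
      have e : ∑ _j ∈ Finset.range r, (1 : AddMonoid.End V) v = r • v := by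
        rw [Finset.sum_const, Finset.card_range]; rfl
      rw [← e]; exact h0
    obtain ⟨l, hl⟩ : ∃ l, Nat.card V = Nat.card (scalarRing ρ U) ^ l := by
      letI := h.isField.toField
      haveI : Finite (AddMonoid.End V) := Finite.of_injective _ DFunLike.coe_injective
      let mV : Module (scalarRing ρ U) V := Module.compHom V (scalarRing ρ U).subtype
      haveI : Module.Finite (scalarRing ρ U) V := Module.Finite.of_finite
      exact ⟨_, Module.natCard_eq_pow_finrank⟩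
    have hcop : ¬ r ∣ Nat.card V := by
      intro hd
      have hd1 := hr.dvd_of_dvd_pow (hl ▸ hd)
      have hd2 := hrU.trans (card_dvd_sub_one h)
      have hpos : 0 < Nat.card (scalarRing ρ U) := lt_of_le_of_lt (Nat.zero_le _) h.card_lt
      have h1 : r ∣ 1 := by
        have := Nat.dvd_sub hd1 hd2
        rwa [Nat.sub_sub_self hpos] at this
      exact hr.one_lt.ne' (Nat.dvd_one.1 h1)
    refine hv ?_
    have h1 : addOrderOf v ∣ r := addOrderOf_dvd_iff_nsmul_eq_zero.2 h0'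
    rcases (Nat.dvd_prime hr).1 h1 with e | e
    · exact AddMonoid.addOrderOf_eq_one_iff.1 e
    · exact absurd (e ▸ addOrderOf_dvd_natCard v) hcop
  · intro i hi hi0
    rw [Finset.mem_range] at hi
    have hne1 : z ^ i ≠ 1 := fun e => by
      have := orderOf_dvd_of_pow_eq_one e
      rw [hoz] at this
      exact absurd (Nat.le_of_dvd (Nat.pos_of_ne_zero hi0) this) (not_le.2 hi)
    have hzi : (z ^ i) ^ r = 1 := by rw [← pow_mul, mul_comm, pow_mul, hzr, one_pow]
    simp only [apply_mul]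
    exact htrace (z ^ i) _ hzi fun w hw e => hw (h.apply_eq_self (U.pow_mem hzU i) hne1 e)
  · intro h; exact absurd (Finset.mem_range.2 hr.pos) h

/-- In every layer but the smallest some element of prime order outside the scalars has a fixed
vector. -/
theorem exists_mover (h : Quasi ρ U) (hL : Layer U E) [U.Normal] [E.Normal]
    [(U.subgroupOf E).Normal] [IsCyclic U] {e r : ℕ} (he : U.relIndex E = e ^ 2) (hr : r.Prime)
    (hre : r ∣ e) (h4 : r = 2 → 4 ∣ e) :
    ∃ g ∈ E, g ∉ U ∧ g ^ r = 1 ∧ ∃ v : V, v ≠ 0 ∧ ρ g v = v := by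
  letI : CommGroup (E ⧸ U.subgroupOf E) :=
    { (inferInstance : Group (E ⧸ U.subgroupOf E)) with mul_comm := hL.quot_comm }
  haveI := Fact.mk hr
  let W := Additive (E ⧸ U.subgroupOf E)
  have hW : Nat.card W = e ^ 2 := by
    rw [Nat.card_congr (Additive.toMul (α := E ⧸ U.subgroupOf E))]; exact he
  let X : AddSubgroup W := (nsmulAddMonoidHom r : W →+ W).ker
  have hX : Inv (addRep hL.act) X := fun a w hw => by
    simp only [X, AddMonoidHom.mem_ker, nsmulAddMonoidHom_apply] at hw ⊢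
    rw [← map_nsmul, hw, map_zero]
  obtain ⟨Y, hY, hinf, hsup⟩ := act_cr h hL X hX
  have hYr : ¬ r ∣ Nat.card Y := by
    intro hd
    obtain ⟨w, hw⟩ := exists_prime_addOrderOf_dvd_card' (G := Y) r hd
    have hm : (w : W) ∈ X ⊓ Y := by
      refine ⟨?_, w.2⟩
      simp only [X, AddMonoidHom.mem_ker, nsmulAddMonoidHom_apply]
      show r • (w : W) = 0
      rw [← AddSubgroup.coe_nsmul, ← hw, addOrderOf_nsmul_eq_zero, AddSubgroup.coe_zero]
    rw [hinf, AddSubgroup.mem_bot] at hm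
    rw [show w = 0 from Subtype.ext hm, addOrderOf_zero] at hw
    exact hr.one_lt.ne hw
  have hprod : e ^ 2 ∣ Nat.card X * Nat.card Y := by
    rw [← hW, ← Nat.card_prod]
    have hsurj : Function.Surjective fun q : X × Y => (q.1 : W) + q.2 := fun w => by
      have hw : w ∈ X ⊔ Y := by rw [hsup]; trivial
      obtain ⟨a, ha, b, hb, rfl⟩ := AddSubgroup.mem_sup.1 hw
      exact ⟨(⟨a, ha⟩, ⟨b, hb⟩), rfl⟩
    exact AddSubgroup.card_dvd_of_surjective
      ({ toFun := fun q => (q.1 : W) + q.2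
         map_zero' := by simp
         map_add' := fun p q => by
           simp only [Prod.fst_add, Prod.snd_add, AddSubgroup.coe_add]; abel } : X × Y →+ W) hsurj
  -- representatives
  have hrep : ∀ w : W, w ∈ X → ∃ x : A, ∃ hx : x ∈ E,
      Additive.ofMul ((⟨x, hx⟩ : E) : E ⧸ U.subgroupOf E) = w ∧ x ^ r ∈ U := by
    intro w hw
    obtain ⟨⟨x, hx⟩, hxw⟩ := QuotientGroup.mk_surjective (Additive.toMul w)
    have hxw' : Additive.ofMul ((⟨x, hx⟩ : E) : E ⧸ U.subgroupOf E) = w :=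
      congrArg Additive.ofMul hxw
    refine ⟨x, hx, hxw', ?_⟩
    simp only [X, AddMonoidHom.mem_ker, nsmulAddMonoidHom_apply] at hw
    rw [← hxw', ← ofMul_pow, ← QuotientGroup.mk_pow] at hw
    exact (QuotientGroup.eq_one_iff ((⟨x, hx⟩ : E) ^ r)).1 (congrArg Additive.toMul hw)
  have hzero : ∀ (x : A) (hx : x ∈ E),
      Additive.ofMul ((⟨x, hx⟩ : E) : E ⧸ U.subgroupOf E) = 0 ↔ x ∈ U := fun x hx =>
    ⟨fun e1 => (QuotientGroup.eq_one_iff (⟨x, hx⟩ : E)).1 (congrArg Additive.toMul e1),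
      fun e1 => congrArg Additive.ofMul ((QuotientGroup.eq_one_iff _).2 e1)⟩
  suffices H : ∃ x y : A, x ∈ E ∧ y ∈ E ∧ x ∉ U ∧ x ^ r ∈ U ∧ y ^ r ∈ U ∧
      (∀ t : ℕ, x ^ t * y ∉ U) ∧ ∀ t : ℕ, (x ^ t * y) ^ r = x ^ (t * r) * y ^ r by
    obtain ⟨x, y, hx, hy, hxU, hxr, hyr, hind, hpow⟩ := H
    obtain ⟨g, hg, hgU, hgr⟩ := exists_torsion hL hr hx hy hxU hxr hyr hind hpow
    exact ⟨g, hg, hgU, hgr, exists_fixed h hL hr (hL.dvd_card hr
      (he ▸ hre.trans (dvd_pow_self e (by norm_num : 2 ≠ 0)))) hg hgU hgr⟩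
  have hrpow : ∀ {k : ℕ}, r ^ k ∣ e ^ 2 → r ^ k ≤ Nat.card X := fun {k} hk =>
    Nat.le_of_dvd Nat.card_pos (((Nat.Prime.coprime_iff_not_dvd hr).2 hYr).pow_left k
      |>.dvd_of_dvd_mul_right (hk.trans hprod))
  by_cases h2 : r = 2
  · subst h2
    have h16 : 16 ≤ Nat.card X := by
      have := hrpow (k := 4) (by
        obtain ⟨c, rfl⟩ := h4 rfl
        exact ⟨c ^ 2, by ring⟩)
      simpa using this
    classical
    haveI := Fintype.ofFinite X
    rw [Nat.card_eq_fintype_card] at h16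
    obtain ⟨a, -, ha⟩ := Finset.exists_mem_notMem_of_card_lt_card
      (s := ({0} : Finset X)) (t := Finset.univ) (by rw [Finset.card_univ]; simp; omega)
    obtain ⟨b, -, hb⟩ := Finset.exists_mem_notMem_of_card_lt_card
      (s := ({0, a} : Finset X)) (t := Finset.univ)
      (lt_of_le_of_lt Finset.card_le_two (by rw [Finset.card_univ]; omega))
    obtain ⟨c, -, hc⟩ := Finset.exists_mem_notMem_of_card_lt_card
      (s := ({0, a, b, a + b} : Finset X)) (t := Finset.univ)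
      (lt_of_le_of_lt Finset.card_le_four (by rw [Finset.card_univ]; omega))
    simp only [Finset.mem_insert, Finset.mem_singleton, not_or] at ha hb hc
    obtain ⟨x, hx, hxa, hxr⟩ := hrep (a : W) a.2
    obtain ⟨y, hy, hyb, hyr⟩ := hrep (b : W) b.2
    obtain ⟨y', hy', hyc, hyr'⟩ := hrep (c : W) c.2
    have haa : a + a = 0 := Subtype.ext (by
      have := a.2
      simp only [X, AddMonoidHom.mem_ker, nsmulAddMonoidHom_apply, two_nsmul] at this
      exact this)
    have hbb : b + b = 0 := Subtype.ext (by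
      have := b.2
      simp only [X, AddMonoidHom.mem_ker, nsmulAddMonoidHom_apply, two_nsmul] at this
      exact this)
    -- three candidates, one commutes with the first
    have hz : ∀ w (hw : w ∈ E), ⁅x, w⁆ = 1 ∨ ⁅x, w⁆ ^ 2 = 1 := fun w hw => Or.inr (by
      rw [← TripleBase.comm_pow_left hL hx hw, commutatorElement_eq_one_iff_mul_comm]
      exact hL.commute hxr hw)
    have hexp : ∀ (d : X) (w : A) (hw : w ∈ E), d ≠ 0 → d ≠ a →
        Additive.ofMul ((⟨w, hw⟩ : E) : E ⧸ U.subgroupOf E) = (d : W) → w ^ 2 ∈ U →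
        ⁅x, w⁆ = 1 → ∃ x y : A, x ∈ E ∧ y ∈ E ∧ x ∉ U ∧ x ^ 2 ∈ U ∧ y ^ 2 ∈ U ∧
          (∀ t : ℕ, x ^ t * y ∉ U) ∧ ∀ t : ℕ, (x ^ t * y) ^ 2 = x ^ (t * 2) * y ^ 2 := by
      intro d w hw hd0 hda hwd hw2 hcw
      have hcom : Commute x w := commutatorElement_eq_one_iff_mul_comm.1 hcw
      refine ⟨x, w, hx, hw, fun e1 => ha (Subtype.ext ?_), hxr, hw2, fun t e1 => ?_, fun t => ?_⟩
      · rw [← hxa]; exact (hzero x hx).2 e1
      · have e2 := (hzero _ (E.mul_mem (E.pow_mem hx t) hw)).2 e1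
        rw [show (⟨x ^ t * w, E.mul_mem (E.pow_mem hx t) hw⟩ : E) = (⟨x, hx⟩ : E) ^ t * ⟨w, hw⟩
          from rfl, QuotientGroup.mk_mul, QuotientGroup.mk_pow, ofMul_mul, ofMul_pow, hxa, hwd] at e2
        have e3 : t • a + d = 0 := Subtype.ext e2
        rcases Nat.even_or_odd t with ⟨k, hk⟩ | ⟨k, hk⟩
        · rw [hk, ← two_mul, mul_nsmul, two_nsmul, haa, nsmul_zero, zero_add] at e3
          exact hd0 e3
        · rw [hk, add_nsmul, mul_nsmul, two_nsmul, haa, nsmul_zero, zero_add, one_nsmul] at e3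
          exact hda (by
            rw [← add_zero d, ← haa, ← add_assoc, add_comm d a, e3, zero_add])
      · rw [(hcom.pow_left t).mul_pow, ← pow_mul]
    by_cases hcb : ⁅x, y⁆ = 1
    · exact hexp b y hy hb.1 hb.2 hyb hyr hcb
    by_cases hcc : ⁅x, y'⁆ = 1
    · exact hexp c y' hy' hc.1 hc.2.1 hyc hyr' hcc
    -- the unique involution of a cyclic group
    have huniq : ∀ u ∈ U, ∀ w ∈ U, u ^ 2 = 1 → w ^ 2 = 1 → u ≠ 1 → w ≠ 1 → u = w := by
      intro u hu w hw hu2 hw2 hu1 hw1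
      by_contra hne
      classical
      haveI := Fintype.ofFinite U
      have hle := IsCyclic.card_pow_eq_one_le (α := U) (n := 2) (by norm_num)
      have hsub : ({1, ⟨u, hu⟩, ⟨w, hw⟩} : Finset U) ⊆
          Finset.univ.filter (fun a : U => a ^ 2 = 1) := by
        intro q hq
        simp only [Finset.mem_insert, Finset.mem_singleton] at hq
        rw [Finset.mem_filter]
        refine ⟨Finset.mem_univ _, ?_⟩
        rcases hq with rfl | rfl | rfl
        · exact one_pow 2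
        · exact Subtype.ext hu2
        · exact Subtype.ext hw2
      have h3 : ({1, ⟨u, hu⟩, ⟨w, hw⟩} : Finset U).card = 3 :=
        Finset.card_eq_three.2 ⟨_, _, _, fun e1 => hu1 (congrArg Subtype.val e1).symm,
          fun e1 => hw1 (congrArg Subtype.val e1).symm, fun e1 => hne (congrArg Subtype.val e1), rfl⟩
      have := Finset.card_le_card hsub
      omega
    have h1 := (hz y hy).resolve_left hcb
    have h1' := (hz y' hy').resolve_left hcc
    have heq := huniq _ (hL.comm x hx y hy) _ (hL.comm x hx y' hy') h1 h1' hcb hcc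
    have hyy : ⁅x, y * y'⁆ = 1 := by
      rw [TripleBase.comm_mul_right hL hx hy hy', heq, ← pow_two, h1']
    refine hexp (b + c) (y * y') (E.mul_mem hy hy') (fun e1 => hc.2.2.1 ?_) (fun e1 => hc.2.2.2 ?_) ?_ ?_ hyy
    · rw [← zero_add c, ← hbb, add_assoc, e1, add_zero]
    · rw [← zero_add c, ← hbb, add_assoc, e1, add_comm]
    · rw [show (⟨y * y', E.mul_mem hy hy'⟩ : E) = ⟨y, hy⟩ * ⟨y', hy'⟩ from rfl,
        QuotientGroup.mk_mul, ofMul_mul, hyb, hyc, AddSubgroup.coe_add]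
    · refine (QuotientGroup.eq_one_iff (N := U.subgroupOf E)
        ((⟨y * y', E.mul_mem hy hy'⟩ : E) ^ 2)).1 ?_
      rw [QuotientGroup.mk_pow, show (⟨y * y', E.mul_mem hy hy'⟩ : E) = ⟨y, hy⟩ * ⟨y', hy'⟩ from rfl,
        QuotientGroup.mk_mul, mul_pow, ← QuotientGroup.mk_pow, ← QuotientGroup.mk_pow]
      rw [(QuotientGroup.eq_one_iff ((⟨y, hy⟩ : E) ^ 2)).2 hyr,
        (QuotientGroup.eq_one_iff ((⟨y', hy'⟩ : E) ^ 2)).2 hyr', one_mul]
  -- odd primes
  have hr2 : r ^ 2 ≤ Nat.card X := hrpow (k := 2) (pow_dvd_pow_of_dvd hre 2)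
  obtain ⟨a, ha⟩ : ∃ a : X, a ≠ 0 := by
    haveI : Nontrivial X := Finite.one_lt_card_iff_nontrivial.1
      (lt_of_lt_of_le (lt_of_lt_of_le hr.one_lt (Nat.le_self_pow (by norm_num) r)) hr2)
    exact exists_ne 0
  have hoa : addOrderOf a = r := addOrderOf_eq_prime (Subtype.ext (by
    have := a.2
    simp only [X, AddMonoidHom.mem_ker, nsmulAddMonoidHom_apply] at this
    simpa using this)) ha
  obtain ⟨b, hb⟩ : ∃ b : X, b ∉ AddSubgroup.zmultiples a := by
    by_contra hall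
    push Not at hall
    have htop : AddSubgroup.zmultiples a = ⊤ := eq_top_iff.2 fun w _ => hall w
    have : Nat.card X = r := by
      rw [← hoa, ← Nat.card_zmultiples, htop, AddSubgroup.card_top]
    have := hr.one_lt
    nlinarith
  obtain ⟨x, hx, hxa, hxr⟩ := hrep (a : W) a.2
  obtain ⟨y, hy, hyb, hyr⟩ := hrep (b : W) b.2
  refine ⟨x, y, hx, hy, fun e1 => ha (Subtype.ext ?_), hxr, hyr, fun t e1 => hb ?_, fun t => ?_⟩
  · rw [← hxa]; exact (hzero x hx).2 e1
  · have e2 := (hzero _ (E.mul_mem (E.pow_mem hx t) hy)).2 e1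
    rw [show (⟨x ^ t * y, E.mul_mem (E.pow_mem hx t) hy⟩ : E) = (⟨x, hx⟩ : E) ^ t * ⟨y, hy⟩
      from rfl, QuotientGroup.mk_mul, QuotientGroup.mk_pow, ofMul_mul, ofMul_pow, hxa, hyb] at e2
    have e3 : t • a + b = 0 := Subtype.ext e2
    rw [show b = -(t • a) from eq_neg_of_add_eq_zero_right e3]
    exact neg_mem (nsmul_mem (AddSubgroup.mem_zmultiples a) t)
  · rw [TripleBase.Eigen.mul_pow_choose hL (E.pow_mem hx t) hy r, ← pow_mul]
    have hc : ⁅y, x ^ t⁆ ^ r.choose 2 = 1 := by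
      obtain ⟨k, hk⟩ : r ∣ r.choose 2 := hr.dvd_choose_self (by norm_num)
        (lt_of_le_of_ne hr.two_le (Ne.symm h2))
      rw [hk, pow_mul, ← TripleBase.comm_pow_left hL hy (E.pow_mem hx t),
        commutatorElement_eq_one_iff_mul_comm.2 (hL.commute hyr (E.pow_mem hx t)), one_pow]
    rw [hc, one_mul]

end CfsgLib.DlStab
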