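import Cfsg.Agent.Lib.DlStab.Colour

/-!
The invariant passes to induced actions.
-/

set_option autoImplicit false
set_option linter.style.haveILetI false

open Subgroup

namespace CfsgLib.DlStab

open CfsgLib.OddBase

universe u

variable {A : Type u} [Group A] {V : Type u} [AddCommGroup V]

/-- Derived length at most eight, with some control on the orbits. -/
def Small (ρ : A →* AddMonoid.End V) : Prop :=
  ∃ d, d ≤ 8 ∧ ser ⊤ d ≤ ker ρ ∧
    (d ≤ 5 ∨ ∃ x y : V, x ≠ 0 ∧ y ≠ 0 ∧ ¬ SameOrbit ρ x y ∧ ∀ v : V, v ≠ 0 → Good ρ 7 v)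

/-- The invariant of irreducible actions. -/
def Outcome (ρ : A →* AddMonoid.End V) : Prop := ManyGood ρ 9 5 ∨ Small ρ

theorem Outcome.exists_good {ρ : A →* AddMonoid.End V} (h : Outcome ρ) : ∃ v, Good ρ 9 v := by
  rcases h with ⟨p, hp, -⟩ | ⟨d, hd, hd', -⟩
  · exact ⟨p 0, hp 0⟩
  · exact ⟨0, good_of_top (ser_le_of_le hd' (by omega)) 0⟩

theorem sameOrbit_zero {ρ : A →* AddMonoid.End V} {v : V} (h : SameOrbit ρ 0 v) : v = 0 := by
  obtain ⟨a, ha⟩ := h
  rw [map_zero] at ha
  exact ha.symm

/-- The zero vector and some nonzero ones, in different orbits. -/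
theorem distinct_two {ρ : A →* AddMonoid.End V} {x : V} (hx : x ≠ 0) :
    ∀ i j, SameOrbit ρ (![0, x] i) (![0, x] j) → i = j := by
  intro i j h
  fin_cases i <;> fin_cases j
  · rfl
  · exact absurd (sameOrbit_zero h) hx
  · exact absurd (sameOrbit_zero h.symm) hx
  · rfl

theorem distinct_three {ρ : A →* AddMonoid.End V} {x y : V} (hx : x ≠ 0) (hy : y ≠ 0)
    (hxy : ¬ SameOrbit ρ x y) : ∀ i j, SameOrbit ρ (![0, x, y] i) (![0, x, y] j) → i = j := by
  intro i j h
  fin_cases i <;> fin_cases j
  · rfl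
  · exact absurd (sameOrbit_zero h) hx
  · exact absurd (sameOrbit_zero h) hy
  · exact absurd (sameOrbit_zero h.symm) hx
  · rfl
  · exact absurd h hxy
  · exact absurd (sameOrbit_zero h.symm) hy
  · exact absurd h.symm hxy
  · rfl

variable [Finite A] [Group.IsSolvable A] {M : Subgroup A}

/-- The index of a maximal subgroup of a soluble group is not six. -/
theorem index_ne_six (hM : IsCoatom M) : M.index ≠ 6 := by
  intro h6
  obtain ⟨W, _, _, φ, e, hirr, hW, -, -, -, -⟩ := exists_top hM
  haveI : Fact (Nat.Prime 2) := ⟨Nat.prime_two⟩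
  haveI : Fact (Nat.Prime 3) := ⟨Nat.prime_three⟩
  obtain ⟨x, hx⟩ := exists_prime_addOrderOf_dvd_card' (G := W) 2 (by omega)
  obtain ⟨y, hy⟩ := exists_prime_addOrderOf_dvd_card' (G := W) 3 (by omega)
  let T : AddSubgroup W := (nsmulAddMonoidHom 2 : W →+ W).ker
  have hT : Inv φ T := fun a v hv => by
    simp only [T, AddMonoidHom.mem_ker, nsmulAddMonoidHom_apply] at hv ⊢
    rw [← map_nsmul, hv, map_zero]
  rcases hirr T hT with h | h
  · have hm : x ∈ T := by
      simp only [T, AddMonoidHom.mem_ker, nsmulAddMonoidHom_apply]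
      rw [← hx]; exact addOrderOf_nsmul_eq_zero x
    rw [h, AddSubgroup.mem_bot] at hm
    rw [hm, addOrderOf_zero] at hx
    omega
  · have hm : y ∈ T := by rw [h]; trivial
    simp only [T, AddMonoidHom.mem_ker, nsmulAddMonoidHom_apply] at hm
    have := addOrderOf_dvd_iff_nsmul_eq_zero.2 hm
    rw [hy] at this
    norm_num at this

variable [Fintype (A ⧸ M)]

omit [Finite A] [Group.IsSolvable A] in
theorem card_univ_cosets : (Finset.univ : Finset (A ⧸ M)).card = M.index := by
  rw [Subgroup.index, Nat.card_eq_fintype_card]; rfl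

variable [Finite V] {ρ : A →* AddMonoid.End V} (B : Blocks ρ (A ⧸ M))

/-- The colouring by a set. -/
noncomputable def setCol (s : Finset (A ⧸ M)) : A ⧸ M → Fin 2 := by
  classical
  exact fun x => if x ∈ s then 1 else 0

omit [Finite A] [Group.IsSolvable A] in
theorem cls_setCol (s : Finset (A ⧸ M)) : cls (setCol s) 1 = s := by
  classical
  ext x
  rw [mem_cls]
  by_cases hx : x ∈ s <;> simp [setCol, hx]

omit [Finite A] [Group.IsSolvable A] [Fintype (A ⧸ M)] in
theorem colStab_setCol_le (s : Finset (A ⧸ M)) [DecidableEq (A ⧸ M)] (g : A)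
    (hg : g ∈ colStab (setCol s)) (x : A ⧸ M) : g • x ∈ s ↔ x ∈ s := by
  have h := mem_colStab.1 hg x
  by_cases hx : x ∈ s <;> by_cases hx' : g • x ∈ s <;> simp [setCol, hx, hx'] at h ⊢

omit [Finite A] [Group.IsSolvable A] in
theorem cls_zero_setCol_compl (s : Finset (A ⧸ M)) [DecidableEq (A ⧸ M)] :
    colStab (setCol sᶜ) ≤ colStab (setCol s) := by
  intro g hg x
  have h := colStab_setCol_le sᶜ g hg x
  simp only [Finset.mem_compl, not_iff_not] at h
  by_cases hx : x ∈ s <;> simp [setCol, hx, h]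

/-- A block of derived length at most five and at least four blocks. -/
theorem five_of_short (hM : IsCoatom M) {d : ℕ} (hd5 : d ≤ 5) (hd : ser ⊤ d ≤ ker (blockRep B))
    {x : block B} (hx : x ≠ 0) (h4 : 4 ≤ M.index) : ManyGood ρ 9 5 := by
  classical
  set p : Fin 2 → block B := ![0, x] with hp'
  have hp : ∀ i j, SameOrbit (blockRep B) (p i) (p j) → i = j := distinct_two hx
  -- it is enough to find five sizes of sets with short stabilisers
  have main : ∀ (S : Fin 5 → Finset (A ⧸ M)), Function.Injective (fun i => (S i).card) →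
      (∀ i, ser (colStab (setCol (S i))) 4 ≤ M.normalCore) → ManyGood ρ 9 5 := by
    intro S hinj hS
    refine manyGood_of_cards B p hp (fun i => setCol (S i)) (fun i c => (cls (setCol (S i)) c).card)
      (fun i c => rfl) (fun i j h => hinj ?_) fun i => ?_
    · have := congrFun h 1
      simp only [cls_setCol] at this
      exact this
    · refine good_colVec B p hp _ 9 fun y => ⟨4, d, by omega, good_of_top hd _, fun g hg =>
        smul_eq_of_mem_core (hS i hg) y⟩
  have hT := tableBelow.{u} 32768 le_rfl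
  by_cases h8 : M.index ≤ 8
  · have hch : ∀ i : Fin 5, ∃ t : Finset (A ⧸ M), t.card = i.1 := fun i => by
      obtain ⟨t, -, ht⟩ := Finset.exists_subset_card_eq
        (s := (Finset.univ : Finset (A ⧸ M))) (n := i.1)
        (by rw [card_univ_cosets]; omega)
      exact ⟨t, ht⟩
    choose S hS using hch
    refine main S (fun i j h => Fin.ext ((hS i).symm.trans (h.trans (hS j)))) fun i => ?_
    have hb := dlBound_le_two h8
    exact (ser_mono le_top _).trans (ser_le_of_le (ser_top_le_core hT hM (by omega)) (by omega))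
  obtain ⟨s, hs4, -, hs⟩ := exists_base hM
  have hsup : ∀ m, 4 ≤ m → m ≤ 6 → ∃ t : Finset (A ⧸ M), t.card = m ∧
      ser (colStab (setCol t)) 4 ≤ M.normalCore := by
    intro m h1 h2
    obtain ⟨t, hst, -, ht⟩ := Finset.exists_subsuperset_card_eq (s := s)
      (t := (Finset.univ : Finset (A ⧸ M))) (n := m) (Finset.subset_univ _) (by omega)
      (by rw [card_univ_cosets]; omega)
    refine ⟨t, ht, fun g hg => hs g fun y hy => ?_⟩
    exact fix_set_six _ t (fun g hg y hy => (colStab_setCol_le t g hg y).2 hy) (by omega) g hg y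
      (hst hy)
  have hcompl : ∀ t : Finset (A ⧸ M), ser (colStab (setCol t)) 4 ≤ M.normalCore →
      tᶜ.card = M.index - t.card ∧ ser (colStab (setCol tᶜ)) 4 ≤ M.normalCore := fun t ht =>
    ⟨by rw [Finset.card_compl, ← card_univ_cosets (M := M), Finset.card_univ],
      (ser_mono (cls_zero_setCol_compl t) 4).trans ht⟩
  obtain ⟨t4, c4, g4⟩ := hsup 4 le_rfl (by omega)
  obtain ⟨t5, c5, g5⟩ := hsup 5 (by omega) (by omega)
  obtain ⟨t6, c6, g6⟩ := hsup 6 (by omega) le_rfl
  by_cases h64 : M.index < 64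
  · have g1 : ser (colStab (setCol {((1 : A) : A ⧸ M)})) 4 ≤ M.normalCore := by
      refine (ser_mono (K := M) (fun g hg => ?_) 4).trans
        (ser_le_of_le (ser_self_le_core hT hM (by omega)) (dlBound_le_four h64))
      have h := (colStab_setCol_le _ g hg ((1 : A) : A ⧸ M)).2 (Finset.mem_singleton_self _)
      rw [Finset.mem_singleton, MulAction.Quotient.smul_coe, QuotientGroup.eq, smul_eq_mul,
        mul_one, mul_one] at h
      exact inv_mem_iff.1 h
    obtain ⟨c1', g1'⟩ := hcompl _ g1
    have c1 : ({((1 : A) : A ⧸ M)} : Finset (A ⧸ M)).card = 1 := Finset.card_singleton _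
    rw [c1] at c1'
    generalize ({((1 : A) : A ⧸ M)} : Finset (A ⧸ M)) = u1 at c1 g1 c1' g1'
    generalize u1ᶜ = u1' at c1' g1'
    refine main ![u1, t4, t5, t6, u1'] ?_ ?_
    · have hc : (fun i => (![u1, t4, t5, t6, u1'] i).card) = ![1, 4, 5, 6, M.index - 1] := by
        funext i
        fin_cases i
        exacts [c1, c4, c5, c6, c1']
      rw [hc]
      intro i j h
      fin_cases i <;> fin_cases j <;> simp at h ⊢ <;> omega
    · intro i; fin_cases i
      exacts [g1, g4, g5, g6, g1']
  · obtain ⟨c4', g4'⟩ := hcompl _ g4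
    obtain ⟨c5', g5'⟩ := hcompl _ g5
    rw [c4] at c4'
    rw [c5] at c5'
    generalize t4ᶜ = u4 at c4' g4'
    generalize t5ᶜ = u5 at c5' g5'
    refine main ![t4, t5, t6, u4, u5] ?_ ?_
    · have hc : (fun i => (![t4, t5, t6, u4, u5] i).card) =
          ![4, 5, 6, M.index - 4, M.index - 5] := by
        funext i
        fin_cases i
        exacts [c4, c5, c6, c4', c5']
      rw [hc]
      intro i j h
      fin_cases i <;> fin_cases j <;> simp at h ⊢ <;> omega
    · intro i; fin_cases i
      exacts [g4, g5, g6, g4', g5']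

/-- A block of derived length at most five and two or three blocks. -/
theorem small_of_short (hM : IsCoatom M) {d : ℕ} (hd5 : d ≤ 5) (hd : ser ⊤ d ≤ ker (blockRep B))
    {x : block B} (hx : x ≠ 0) (h3 : M.index ≤ 3) : Small ρ := by
  classical
  set p : Fin 2 → block B := ![0, x] with hp'
  have hp : ∀ i j, SameOrbit (blockRep B) (p i) (p j) → i = j := distinct_two hx
  have h2 : 2 ≤ M.index := by
    have h0 : M.index ≠ 0 := FiniteIndex.index_ne_zero
    have h1 : M.index ≠ 1 := fun e => hM.1 (Subgroup.index_eq_one.1 e)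
    omega
  have htop := ser_top_le_core (tableBelow.{u} 32768 le_rfl) hM (by omega)
  have hb : 1 + dlBound M.index ≤ 2 := by
    unfold dlBound; split_ifs <;> omega
  have key := ser_le_of_le (ser_top_le B (ser_le_of_le htop hb) hd) (show 2 + d ≤ 7 by omega)
  refine ⟨7, by omega, key, Or.inr ⟨colVec B p (setCol {((1 : A) : A ⧸ M)}),
    colVec B p (setCol Finset.univ), ?_, ?_, fun h => ?_, fun v _ => good_of_top key v⟩⟩
  · intro e
    have h1 := congrFun (glue_inj B (c' := fun _ => 0) (e.trans (glue_zero B).symm))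
      ((1 : A) : A ⧸ M)
    simp [p, setCol] at h1
    exact hx h1
  · intro e
    have h1 := congrFun (glue_inj B (c' := fun _ => 0) (e.trans (glue_zero B).symm))
      ((1 : A) : A ⧸ M)
    simp [p, setCol] at h1
    exact hx h1
  · have := card_cls_eq_of_sameOrbit B p hp h 1
    rw [cls_setCol, cls_setCol, Finset.card_singleton, card_univ_cosets] at this
    omega

/-- The colouring used for blocks with at least two nonzero orbits. -/
noncomputable def triCol (s t : Finset (A ⧸ M)) (i j r : Fin 3) : A ⧸ M → Fin 3 := by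
  classical
  exact fun x => if x ∈ s then i else if x ∈ t then j else r

omit [Finite A] [Group.IsSolvable A] in
theorem card_cls_triCol (s t : Finset (A ⧸ M)) (hd : Disjoint s t) {i j r : Fin 3} (hij : i ≠ j)
    (hir : i ≠ r) (hjr : j ≠ r) :
    (cls (triCol s t i j r) i).card = s.card ∧ (cls (triCol s t i j r) j).card = t.card ∧
      (cls (triCol s t i j r) r).card = M.index - s.card - t.card := by
  classical
  have h1 : cls (triCol s t i j r) i = s := by
    ext x
    rw [mem_cls]
    by_cases hs : x ∈ s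
    · simp [triCol, hs]
    · by_cases ht : x ∈ t <;> simp [triCol, hs, ht, hij.symm, hir.symm]
  have h2 : cls (triCol s t i j r) j = t := by
    ext x
    rw [mem_cls]
    by_cases hs : x ∈ s
    · simp [triCol, hs, hij, Finset.disjoint_left.1 hd hs]
    · by_cases ht : x ∈ t <;> simp [triCol, hs, ht, hjr.symm]
  have h3 : cls (triCol s t i j r) r = (s ∪ t)ᶜ := by
    ext x
    rw [mem_cls, Finset.mem_compl, Finset.mem_union]
    by_cases hs : x ∈ s
    · simp [triCol, hs, hir]
    · by_cases ht : x ∈ t <;> simp [triCol, hs, ht, hjr]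
  refine ⟨by rw [h1], by rw [h2], ?_⟩
  rw [h3, Finset.card_compl, Finset.card_union_of_disjoint hd, ← card_univ_cosets (M := M),
    Finset.card_univ]
  omega

/-- A block with two nonzero orbits. -/
theorem five_of_two_orbits (hM : IsCoatom M) {d : ℕ} (hd8 : d ≤ 8)
    (hd : ser ⊤ d ≤ ker (blockRep B)) {x y : block B} (hx : x ≠ 0) (hy : y ≠ 0)
    (hxy : ¬ SameOrbit (blockRep B) x y) (hgood : ∀ v : block B, v ≠ 0 → Good (blockRep B) 7 v) :
    ManyGood ρ 9 5 := by
  classical
  set p : Fin 3 → block B := ![0, x, y] with hp'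
  have hp : ∀ i j, SameOrbit (blockRep B) (p i) (p j) → i = j := distinct_three hx hy hxy
  have h8 : ∀ c, Good (blockRep B) 8 (p c) := fun c => good_of_top (ser_le_of_le hd hd8) _
  have h7 : ∀ c : Fin 3, c ≠ 0 → Good (blockRep B) 7 (p c) := fun c hc => by
    fin_cases c
    · exact absurd rfl hc
    · exact hgood _ hx
    · exact hgood _ hy
  -- one step
  have good1 : ∀ f : A ⧸ M → Fin 3, (∀ g ∈ ser (colStab f) 1, ∀ z : A ⧸ M, g • z = z) →
      Good ρ 9 (colVec B p f) := fun f hf =>
    good_colVec B p hp f 9 fun z => ⟨1, 8, by norm_num, h8 _, fun g hg => hf g hg z⟩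
  -- two steps, a zero colour standing alone
  have good2 : ∀ f : A ⧸ M → Fin 3, (∀ g ∈ ser (colStab f) 2, ∀ z : A ⧸ M, g • z = z) →
      (cls f 0).card ≤ 1 → Good ρ 9 (colVec B p f) := fun f hf h0 =>
    good_colVec B p hp f 9 fun z => by
      by_cases hz : f z = 0
      · exact ⟨0, 8, by norm_num, h8 _, fun g hg => fix_of_card_one f h0 hg hz⟩
      · exact ⟨2, 7, by norm_num, h7 _ hz, fun g hg => hf g hg z⟩
  have h0 : M.index ≠ 0 := FiniteIndex.index_ne_zero
  have h1 : M.index ≠ 1 := fun e => hM.1 (Subgroup.index_eq_one.1 e)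
  have h6 := index_ne_six hM
  by_cases h4 : M.index < 4
  · -- two or three blocks: every class has at most two points
    obtain ⟨z₀, z₁, hz⟩ : ∃ z₀ z₁ : A ⧸ M, z₀ ≠ z₁ := by
      by_contra hc
      push Not at hc
      haveI : Subsingleton (A ⧸ M) := ⟨hc⟩
      exact h1 (Nat.card_eq_one_iff_unique.2 ⟨inferInstance, inferInstance⟩)
    have hgen : ∀ f : A ⧸ M → Fin 3, (∀ c, (cls f c).card ≤ 2) → Good ρ 9 (colVec B p f) :=
      fun f hf => good1 f fun g hg z => fix_cls f (Or.inl ⟨hf _, le_rfl⟩) hg rfl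
    by_cases h22 : M.index = 2
    · -- two blocks
      let F : Fin 5 → A ⧸ M → Fin 3 := ![triCol {z₀} {z₁} 0 1 2, triCol {z₀} {z₁} 0 2 1,
        triCol {z₀} {z₁} 1 2 0, triCol {z₀, z₁} ∅ 1 0 2, triCol {z₀, z₁} ∅ 2 0 1]
      let N : Fin 5 → Fin 3 → ℕ := ![![1, 1, 0], ![1, 0, 1], ![0, 1, 1], ![0, 2, 0], ![0, 0, 2]]
      have hd1 : Disjoint ({z₀} : Finset (A ⧸ M)) {z₁} := Finset.disjoint_singleton.2 hz
      have hd2 : Disjoint ({z₀, z₁} : Finset (A ⧸ M)) ∅ := Finset.disjoint_empty_right _
      have hc2 : ({z₀, z₁} : Finset (A ⧸ M)).card = 2 := Finset.card_pair hz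
      have hN : ∀ i c, (cls (F i) c).card = N i c := by
        obtain ⟨a1, a2, a3⟩ := card_cls_triCol (M := M) _ _ hd1 (i := 0) (j := 1) (r := 2)
          (by decide) (by decide) (by decide)
        obtain ⟨b1, b2, b3⟩ := card_cls_triCol (M := M) _ _ hd1 (i := 0) (j := 2) (r := 1)
          (by decide) (by decide) (by decide)
        obtain ⟨c1, c2, c3⟩ := card_cls_triCol (M := M) _ _ hd1 (i := 1) (j := 2) (r := 0)
          (by decide) (by decide) (by decide)
        obtain ⟨d1, d2, d3⟩ := card_cls_triCol (M := M) _ _ hd2 (i := 1) (j := 0) (r := 2)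
          (by decide) (by decide) (by decide)
        obtain ⟨e1, e2, e3⟩ := card_cls_triCol (M := M) _ _ hd2 (i := 2) (j := 0) (r := 1)
          (by decide) (by decide) (by decide)
        intro i c
        fin_cases i <;> fin_cases c <;>
          simp [F, N, a1, a2, a3, b1, b2, b3, c1, c2, c3, d1, d2, d3, e1, e2, e3, h22, hc2]
      refine manyGood_of_cards B p hp F N hN (by decide) fun i => hgen _ fun c => ?_
      rw [hN]
      fin_cases i <;> fin_cases c <;> decide
    · -- three blocks
      obtain ⟨z₂, -, hz2⟩ : ∃ z₂ : A ⧸ M, z₂ ∈ Finset.univ ∧ z₂ ∉ ({z₀, z₁} : Finset (A ⧸ M)) :=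
        Finset.exists_mem_notMem_of_card_lt_card (by
          rw [Finset.card_pair hz, card_univ_cosets]; omega)
      let F : Fin 5 → A ⧸ M → Fin 3 := ![triCol {z₂} {z₀, z₁} 0 1 2, triCol {z₂} {z₀, z₁} 0 2 1,
        triCol {z₂} {z₀, z₁} 1 2 0, triCol {z₂} {z₀, z₁} 2 1 0, triCol {z₂} {z₀} 0 1 2]
      let N : Fin 5 → Fin 3 → ℕ := ![![1, 2, 0], ![1, 0, 2], ![0, 1, 2], ![0, 2, 1], ![1, 1, 1]]
      have hd1 : Disjoint ({z₂} : Finset (A ⧸ M)) {z₀, z₁} := Finset.disjoint_singleton_left.2 hz2
      have hd2 : Disjoint ({z₂} : Finset (A ⧸ M)) {z₀} := Finset.disjoint_singleton_left.2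
        fun e => hz2 (Finset.mem_insert.2 (Or.inl (Finset.mem_singleton.1 e)))
      have hc2 : ({z₀, z₁} : Finset (A ⧸ M)).card = 2 := Finset.card_pair hz
      have h33 : M.index = 3 := by omega
      have hN : ∀ i c, (cls (F i) c).card = N i c := by
        obtain ⟨a1, a2, a3⟩ := card_cls_triCol (M := M) _ _ hd1 (i := 0) (j := 1) (r := 2)
          (by decide) (by decide) (by decide)
        obtain ⟨b1, b2, b3⟩ := card_cls_triCol (M := M) _ _ hd1 (i := 0) (j := 2) (r := 1)
          (by decide) (by decide) (by decide)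
        obtain ⟨c1, c2, c3⟩ := card_cls_triCol (M := M) _ _ hd1 (i := 1) (j := 2) (r := 0)
          (by decide) (by decide) (by decide)
        obtain ⟨d1, d2, d3⟩ := card_cls_triCol (M := M) _ _ hd1 (i := 2) (j := 1) (r := 0)
          (by decide) (by decide) (by decide)
        obtain ⟨e1, e2, e3⟩ := card_cls_triCol (M := M) _ _ hd2 (i := 0) (j := 1) (r := 2)
          (by decide) (by decide) (by decide)
        intro i c
        fin_cases i <;> fin_cases c <;>
          simp [F, N, a1, a2, a3, b1, b2, b3, c1, c2, c3, d1, d2, d3, e1, e2, e3, h33, hc2]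
      refine manyGood_of_cards B p hp F N hN (by decide) fun i => hgen _ fun c => ?_
      rw [hN]
      fin_cases i <;> fin_cases c <;> decide
  -- at least four blocks
  obtain ⟨s, hs4, -, hs⟩ := exists_base hM
  obtain ⟨T, hsT, -, hT⟩ := Finset.exists_subsuperset_card_eq (s := s)
    (t := (Finset.univ : Finset (A ⧸ M))) (n := 4) (Finset.subset_univ _) hs4
    (by rw [card_univ_cosets]; omega)
  have hTcore : ∀ a : A, (∀ z ∈ T, a • z = z) → a ∈ M.normalCore :=
    fun a ha => hs a fun z hz => ha z (hsT hz)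
  obtain ⟨S, hST, hS⟩ := Finset.exists_subset_card_eq (s := T) (n := 2) (by omega)
  obtain ⟨Z, hZT, hZ⟩ := Finset.exists_subset_card_eq (s := T) (n := 1) (by omega)
  have hS' : (T \ S).card = 2 := by rw [Finset.card_sdiff_of_subset hST]; omega
  have hZ' : (T \ Z).card = 3 := by rw [Finset.card_sdiff_of_subset hZT]; omega
  have hdS : Disjoint S (T \ S) := Finset.disjoint_sdiff
  have hdZ : Disjoint Z (T \ Z) := Finset.disjoint_sdiff
  have goodA : ∀ i j r : Fin 3, i ≠ j → i ≠ r → j ≠ r →
      Good ρ 9 (colVec B p (triCol S (T \ S) i j r)) := by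
    intro i j r hij hir hjr
    obtain ⟨a1, a2, -⟩ := card_cls_triCol (M := M) _ _ hdS hij hir hjr
    refine good1 _ fun g hg z => smul_eq_of_mem_core
      (ser_colStab_le_core _ T hTcore 1 (fun w hw => Or.inl ⟨?_, le_rfl⟩) hg) z
    by_cases hwS : w ∈ S
    · rw [show triCol S (T \ S) i j r w = i by simp [triCol, hwS], a1]; omega
    · rw [show triCol S (T \ S) i j r w = j by simp [triCol, hwS, hw], a2]; omega
  obtain ⟨a1, a2, a3⟩ := card_cls_triCol (M := M) _ _ hdS (i := 1) (j := 2) (r := 0)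
    (by decide) (by decide) (by decide)
  obtain ⟨b1, b2, b3⟩ := card_cls_triCol (M := M) _ _ hdS (i := 0) (j := 2) (r := 1)
    (by decide) (by decide) (by decide)
  obtain ⟨c1, c2, c3⟩ := card_cls_triCol (M := M) _ _ hdS (i := 0) (j := 1) (r := 2)
    (by decide) (by decide) (by decide)
  by_cases h7b : M.index = 7
  · -- seven blocks: a singleton class
    have hdO : Disjoint ({((1 : A) : A ⧸ M)} : Finset (A ⧸ M)) ∅ := Finset.disjoint_empty_right _
    have good7 : ∀ i j r : Fin 3, i ≠ j → i ≠ r → j ≠ r →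
        Good ρ 9 (colVec B p (triCol {((1 : A) : A ⧸ M)} ∅ i j r)) := by
      intro i j r hij hir hjr
      obtain ⟨d1, -, -⟩ := card_cls_triCol (M := M) _ _ hdO hij hir hjr
      refine good1 _ fun g hg z => smul_eq_of_mem_core ?_ z
      refine (ser_mono (K := M) (fun a ha => ?_) 1).trans
        (ser_self_one_le_core hM (h7b ▸ by norm_num)) hg
      have h := fix_of_card_one (triCol {((1 : A) : A ⧸ M)} ∅ i j r) (c := i)
        (by rw [d1]; simp) ha (x := ((1 : A) : A ⧸ M)) (by simp [triCol])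
      rw [MulAction.Quotient.smul_coe, QuotientGroup.eq, smul_eq_mul, mul_one, mul_one] at h
      exact inv_mem_iff.1 h
    obtain ⟨d1, d2, d3⟩ := card_cls_triCol (M := M) _ _ hdO (i := 0) (j := 2) (r := 1)
      (by decide) (by decide) (by decide)
    obtain ⟨e1, e2, e3⟩ := card_cls_triCol (M := M) _ _ hdO (i := 0) (j := 1) (r := 2)
      (by decide) (by decide) (by decide)
    refine manyGood_of_cards B p hp ![triCol S (T \ S) 1 2 0, triCol S (T \ S) 0 2 1,
        triCol S (T \ S) 0 1 2, triCol {((1 : A) : A ⧸ M)} ∅ 0 2 1,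
        triCol {((1 : A) : A ⧸ M)} ∅ 0 1 2]
      ![![3, 2, 2], ![2, 3, 2], ![2, 2, 3], ![1, 6, 0], ![1, 0, 6]] ?_ (by decide) ?_
    · intro i c
      fin_cases i <;> fin_cases c <;>
        simp [a1, a2, a3, b1, b2, b3, c1, c2, c3, d1, d2, d3, e1, e2, e3, hS, hS', h7b]
    · intro i
      fin_cases i
      · exact goodA 1 2 0 (by decide) (by decide) (by decide)
      · exact goodA 0 2 1 (by decide) (by decide) (by decide)
      · exact goodA 0 1 2 (by decide) (by decide) (by decide)
      · exact good7 0 2 1 (by decide) (by decide) (by decide)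
      · exact good7 0 1 2 (by decide) (by decide) (by decide)
  have goodB : ∀ j r : Fin 3, 0 ≠ j → 0 ≠ r → j ≠ r →
      Good ρ 9 (colVec B p (triCol Z (T \ Z) 0 j r)) := by
    intro j r hij hir hjr
    obtain ⟨a1, a2, -⟩ := card_cls_triCol (M := M) _ _ hdZ hij hir hjr
    refine good2 _ (fun g hg z => smul_eq_of_mem_core
      (ser_colStab_le_core _ T hTcore 2 (fun w hw => Or.inr ⟨?_, le_rfl⟩) hg) z) (by rw [a1]; omega)
    by_cases hwS : w ∈ Z
    · rw [show triCol Z (T \ Z) 0 j r w = 0 by simp [triCol, hwS], a1]; omega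
    · rw [show triCol Z (T \ Z) 0 j r w = j by simp [triCol, hwS, hw], a2]; omega
  obtain ⟨d1, d2, d3⟩ := card_cls_triCol (M := M) _ _ hdZ (i := 0) (j := 1) (r := 2)
    (by decide) (by decide) (by decide)
  obtain ⟨e1, e2, e3⟩ := card_cls_triCol (M := M) _ _ hdZ (i := 0) (j := 2) (r := 1)
    (by decide) (by decide) (by decide)
  set n := M.index - 4 with hn
  refine manyGood_of_cards B p hp ![triCol S (T \ S) 1 2 0, triCol S (T \ S) 0 2 1,
      triCol S (T \ S) 0 1 2, triCol Z (T \ Z) 0 1 2, triCol Z (T \ Z) 0 2 1]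
    ![![n, 2, 2], ![2, n, 2], ![2, 2, n], ![1, 3, n], ![1, n, 3]] ?_ ?_ ?_
  · intro i c
    fin_cases i <;> fin_cases c <;>
      simp [a1, a2, a3, b1, b2, b3, c1, c2, c3, d1, d2, d3, e1, e2, e3, hS, hS', hZ, hZ'] <;> omega
  · intro i j h
    have e0 := congrFun h 0
    have e1' := congrFun h 1
    fin_cases i <;> fin_cases j <;> simp at e0 e1' <;> first | rfl | omega
  · intro i
    fin_cases i
    · exact goodA 1 2 0 (by decide) (by decide) (by decide)
    · exact goodA 0 2 1 (by decide) (by decide) (by decide)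
    · exact goodA 0 1 2 (by decide) (by decide) (by decide)
    · exact goodB 1 2 (by decide) (by decide) (by decide)
    · exact goodB 2 1 (by decide) (by decide) (by decide)

/-- The invariant passes to induced actions. -/
theorem outcome_of_blocks (hM : IsCoatom M) (h : Outcome (blockRep B)) : Outcome ρ := by
  rcases h with ⟨p, hgood, hp⟩ | ⟨d, hd8, hd, h⟩
  · obtain ⟨col, hcol⟩ := TripleBase.exists_colouring hM
    exact Or.inl (manyGood_of_five B p hp rfl hcol hM.1 hgood)
  rcases h with hd5 | ⟨x, y, hx, hy, hxy, hgood⟩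
  · obtain ⟨x, hx⟩ : ∃ x : block B, x ≠ 0 := by
      haveI : Nontrivial (block B) := Finite.one_lt_card_iff_nontrivial.1 (two_le_card_block B)
      exact exists_ne 0
    by_cases h4 : 4 ≤ M.index
    · exact Or.inl (five_of_short B hM hd5 hd hx h4)
    · exact Or.inr (small_of_short B hM hd5 hd hx (by omega))
  · exact Or.inl (five_of_two_orbits B hM hd8 hd hx hy hxy hgood)

end CfsgLib.DlStab
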