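import Cfsg.Agent.Lib.DlStab.Basic
import Cfsg.Agent.Lib.OddBase.Imprimitive

/-!
Vectors glued from block components in an imprimitive action, and the derived series of their
stabilisers.
-/

set_option autoImplicit false
set_option linter.style.haveILetI false

open Subgroup

namespace CfsgLib.DlStab

open CfsgLib.OddBase

universe u

variable {A : Type u} [Group A] {V : Type u} [AddCommGroup V] {ρ : A →* AddMonoid.End V}
  {M : Subgroup A} [Fintype (A ⧸ M)] (B : Blocks ρ (A ⧸ M))

/-- The first block. -/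
def block : AddSubgroup V := (B.π ((1 : A) : A ⧸ M) : V →+ V).range

theorem base_fixed (h : M) : (h : A) • ((1 : A) : A ⧸ M) = ((1 : A) : A ⧸ M) := by
  rw [MulAction.Quotient.smul_coe, QuotientGroup.eq]
  simpa [smul_eq_mul] using M.inv_mem h.2

theorem block_inv : Inv (ρ.comp M.subtype) (block B) := by
  rintro h _ ⟨v, rfl⟩
  refine ⟨ρ h v, ?_⟩
  have := B.apply_equiv (h : A) ((1 : A) : A ⧸ M) v
  rw [base_fixed] at this
  exact this.symm

/-- The action of the point stabiliser on the first block. -/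
def blockRep : M →* AddMonoid.End (block B) := res (ρ.comp M.subtype) (block B) (block_inv B)

theorem blockRep_apply (h : M) (v : block B) : (blockRep B h v : V) = ρ (h : A) (v : V) := rfl

omit [Fintype (A ⧸ M)] in
/-- Representatives of the cosets. -/
theorem out_smul_base (x : A ⧸ M) : x.out • ((1 : A) : A ⧸ M) = x := by
  rw [MulAction.Quotient.smul_coe, smul_eq_mul, mul_one]
  exact Quotient.out_eq x

omit [Fintype (A ⧸ M)] in
theorem conj_mem_of_smul {a : A} {x y : A ⧸ M} (h : a • x = y) : y.out⁻¹ * a * x.out ∈ M := by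
  have h1 : (y.out⁻¹ * a * x.out) • ((1 : A) : A ⧸ M) = ((1 : A) : A ⧸ M) := by
    rw [mul_smul, mul_smul, out_smul_base, h, inv_smul_eq_iff, out_smul_base]
  rw [MulAction.Quotient.smul_coe, QuotientGroup.eq, smul_eq_mul, mul_one, mul_one] at h1
  exact inv_mem_iff.1 h1

theorem proj_block {v : V} (hv : v ∈ block B) : B.π ((1 : A) : A ⧸ M) v = v := by
  obtain ⟨v, rfl⟩ := hv
  exact DFunLike.congr_fun (B.idem _) v

theorem back_mem (x : A ⧸ M) (v : V) : ρ x.out⁻¹ (B.π x v) ∈ block B := by
  refine ⟨ρ x.out⁻¹ v, ?_⟩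
  have := B.apply_equiv x.out⁻¹ x v
  rw [show x.out⁻¹ • x = ((1 : A) : A ⧸ M) from inv_smul_eq_iff.2 (out_smul_base x).symm] at this
  exact this.symm

/-- The vector with the given components. -/
noncomputable def glue (c : A ⧸ M → block B) : V := ∑ x, ρ x.out (c x : V)

theorem proj_glue (c : A ⧸ M → block B) (y : A ⧸ M) :
    B.π y (glue B c) = ρ y.out (c y : V) := by
  classical
  rw [glue, map_sum, Finset.sum_eq_single y]
  · have := B.apply_equiv y.out ((1 : A) : A ⧸ M) (c y : V)
    rw [out_smul_base, proj_block B (c y).2] at this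
    exact this.symm
  · intro x _ hx
    have := B.apply_equiv x.out ((1 : A) : A ⧸ M) (c x : V)
    rw [out_smul_base, proj_block B (c x).2] at this
    rw [this]
    exact DFunLike.congr_fun (B.orth y x hx.symm) _
  · intro h; exact absurd (Finset.mem_univ y) h

theorem glue_zero : glue B (fun _ => 0) = 0 := by
  simp [glue]

theorem glue_inj {c c' : A ⧸ M → block B} (h : glue B c = glue B c') : c = c' := by
  funext x
  refine Subtype.ext (apply_injective ρ x.out ?_)
  rw [← proj_glue B c, ← proj_glue B c', h]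

/-- Every vector is glued. -/
theorem exists_glue (v : V) : ∃ c, glue B c = v := by
  refine ⟨fun x => ⟨ρ x.out⁻¹ (B.π x v), back_mem B x v⟩, ?_⟩
  rw [glue]
  conv_rhs => rw [← B.sum_apply v]
  exact Finset.sum_congr rfl fun x _ => apply_apply_inv ρ _ _

theorem card_eq [Finite V] : Nat.card V = Nat.card (block B) ^ M.index := by
  rw [Subgroup.index, ← Nat.card_fun]
  exact (Nat.card_congr (Equiv.ofBijective (glue B)
    ⟨fun c c' h => glue_inj B h, fun v => exists_glue B v⟩)).symm

theorem two_le_card_block [Finite V] : 2 ≤ Nat.card (block B) := by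
  have hne : Nontrivial (block B) := by
    rw [AddSubgroup.nontrivial_iff_ne_bot]
    intro h
    refine B.ne_zero ((1 : A) : A ⧸ M) (AddMonoidHom.ext fun v => ?_)
    have h1 : B.π ((1 : A) : A ⧸ M) v ∈ block B := ⟨v, rfl⟩
    rw [h, AddSubgroup.mem_bot] at h1
    exact h1
  exact Finite.one_lt_card

/-- Carrying components to components. -/
theorem step {a : A} {c c' : A ⧸ M → block B} (h : ρ a (glue B c) = glue B c') (x : A ⧸ M) :
    blockRep B ⟨_, conj_mem_of_smul (rfl : a • x = a • x)⟩ (c x) = c' (a • x) := by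
  apply Subtype.ext
  have e := B.apply_equiv a x (glue B c)
  rw [h, proj_glue, proj_glue] at e
  rw [blockRep_apply]
  show ρ ((a • x).out⁻¹ * a * x.out) _ = _
  rw [apply_mul, apply_mul, e, apply_inv_apply]

theorem blockRep_irr (hirr : Irr ρ) : Irr (blockRep B) := by
  intro U hU
  let T : AddSubgroup V :=
    { carrier := {v | ∀ x, ∃ u ∈ U, (u : V) = ρ x.out⁻¹ (B.π x v)}
      zero_mem' := fun x => ⟨0, U.zero_mem, by simp⟩
      add_mem' := fun {v w} hv hw x => by
        obtain ⟨a, ha, ha'⟩ := hv x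
        obtain ⟨b, hb, hb'⟩ := hw x
        exact ⟨a + b, U.add_mem ha hb, by rw [map_add, map_add, AddSubgroup.coe_add, ha', hb']⟩
      neg_mem' := fun {v} hv x => by
        obtain ⟨a, ha, ha'⟩ := hv x
        exact ⟨-a, U.neg_mem ha, by rw [map_neg, map_neg, AddSubgroup.coe_neg, ha']⟩ }
  have hT : Inv ρ T := by
    intro a v hv x
    obtain ⟨u, hu, hu'⟩ := hv (a⁻¹ • x)
    refine ⟨_, hU ⟨_, conj_mem_of_smul (smul_inv_smul a x)⟩ u hu, ?_⟩
    rw [blockRep_apply]
    show ρ (x.out⁻¹ * a * (a⁻¹ • x).out) (u : V) = _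
    have e := B.apply_equiv a (a⁻¹ • x) v
    rw [smul_inv_smul] at e
    rw [apply_mul, hu', apply_apply_inv, apply_mul, e]
  have hbase : ((1 : A) : A ⧸ M).out ∈ M := by
    have h2 := out_smul_base ((1 : A) : A ⧸ M)
    rw [MulAction.Quotient.smul_coe, QuotientGroup.eq, smul_eq_mul, mul_one, mul_one] at h2
    exact inv_mem_iff.1 h2
  rcases hirr T hT with h | h
  · left
    rw [eq_bot_iff]
    intro u hu
    have hmem : (u : V) ∈ T := by
      intro x
      rcases eq_or_ne x ((1 : A) : A ⧸ M) with rfl | hx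
      · refine ⟨_, hU ⟨_, M.inv_mem hbase⟩ u hu, ?_⟩
        rw [blockRep_apply, proj_block B u.2]
      · obtain ⟨v, hv⟩ := u.2
        have h0 : B.π x (u : V) = 0 := by
          rw [← hv]; exact DFunLike.congr_fun (B.orth x _ hx) v
        exact ⟨0, U.zero_mem, by rw [h0]; simp⟩
    rw [h, AddSubgroup.mem_bot] at hmem
    exact AddSubgroup.mem_bot.2 (Subtype.ext hmem)
  · right
    rw [eq_top_iff]
    intro v _
    have hv : ρ ((1 : A) : A ⧸ M).out (v : V) ∈ T := by rw [h]; trivial
    obtain ⟨u, hu, hu'⟩ := hv ((1 : A) : A ⧸ M)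
    have hin : ρ ((1 : A) : A ⧸ M).out (v : V) ∈ block B := block_inv B ⟨_, hbase⟩ _ v.2
    rw [proj_block B hin, apply_inv_apply] at hu'
    rw [← (Subtype.ext hu' : u = v)]
    exact hu

/-- The stabiliser of a glued vector: it is enough to control each component. -/
theorem good_glue (c : A ⧸ M → block B) (n : ℕ)
    (hc : ∀ x, ∃ a d, a + d ≤ n ∧ Good (blockRep B) d (c x) ∧
      ∀ g ∈ ser (stab ρ (glue B c)) a, g • x = x) : Good ρ n (glue B c) := by
  intro g hg
  rw [mem_ker]
  refine AddMonoidHom.ext fun v => ?_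
  show ρ g v = v
  conv_lhs => rw [← B.sum_apply v, map_sum]
  conv_rhs => rw [← B.sum_apply v]
  refine Finset.sum_congr rfl fun x _ => ?_
  obtain ⟨a, d, hle, hgood, hfix⟩ := hc x
  set H := ser (stab ρ (glue B c)) a with hH
  let f : A →* A := (MulAut.conj x.out⁻¹).toMonoidHom
  have hf : ∀ k, f k = x.out⁻¹ * k * x.out := fun k => by
    show MulAut.conj x.out⁻¹ k = _
    rw [MulAut.conj_apply, inv_inv]
  have hHM : H.map f ≤ (stab (blockRep B) (c x)).map M.subtype := by
    rintro _ ⟨k, hk, rfl⟩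
    have hx : k • x = x := hfix k hk
    refine ⟨⟨f k, by rw [hf]; exact conj_mem_of_smul hx⟩, ?_, rfl⟩
    apply Subtype.ext
    have e := B.apply_equiv k x (glue B c)
    rw [show ρ k (glue B c) = glue B c from ser_le_self _ a hk, hx, proj_glue] at e
    rw [blockRep_apply]
    show ρ (f k) _ = _
    rw [hf, apply_mul, apply_mul, e, apply_inv_apply]
  have hgH : g ∈ ser H d := by
    rw [hH, ← ser_add]
    exact ser_antitone _ hle hg
  have h1 : f g ∈ (ker (blockRep B)).map M.subtype := by
    have h2 : f g ∈ ser (H.map f) d := by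
      rw [← map_ser]
      exact mem_map_of_mem f hgH
    have h3 := ser_mono hHM d h2
    rw [← map_ser] at h3
    exact Subgroup.map_mono hgood h3
  obtain ⟨k, hk, hkg⟩ := h1
  have hx : g • x = x := hfix g (ser_antitone _ (le_trans (Nat.le_add_right a d) hle) hg)
  have h4 : ρ (k : A) (ρ x.out⁻¹ (B.π x v)) = ρ x.out⁻¹ (B.π x v) := by
    have := DFunLike.congr_fun (mem_ker.1 hk) (⟨_, back_mem B x v⟩ : block B)
    exact congrArg Subtype.val this
  rw [show (k : A) = x.out⁻¹ * g * x.out from hkg.trans (hf g), apply_mul, apply_mul,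
    apply_apply_inv] at h4
  exact apply_injective ρ _ h4

/-- The whole group. -/
theorem ser_top_le {a d : ℕ} (htop : ser ⊤ a ≤ M.normalCore) (hd : ser ⊤ d ≤ ker (blockRep B)) :
    ser ⊤ (a + d) ≤ ker ρ := by
  have h := good_glue B (fun _ => 0) (a + d) fun x => ⟨a, d, le_rfl, good_of_top hd _, fun g hg => ?_⟩
  · rw [glue_zero, Good, stab_zero] at h
    exact h
  · rw [glue_zero, stab_zero] at hg
    have := htop hg
    rw [Subgroup.normalCore_eq_ker, MonoidHom.mem_ker] at this
    exact Equiv.congr_fun this x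

section colours

variable {k : ℕ} (p : Fin k → block B)
  (hp : ∀ i j, SameOrbit (blockRep B) (p i) (p j) → i = j)

include hp in
theorem colour_eq_of_sameOrbit {f f' : A ⧸ M → Fin k} {a : A}
    (h : ρ a (glue B fun x => p (f x)) = glue B fun x => p (f' x)) (x : A ⧸ M) :
    f' (a • x) = f x :=
  (hp _ _ ⟨_, step B h x⟩).symm

include hp in
theorem colour_preserved {f : A ⧸ M → Fin k} {a : A}
    (h : a ∈ stab ρ (glue B fun x => p (f x))) (x : A ⧸ M) : f (a • x) = f x :=
  colour_eq_of_sameOrbit B p hp h x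

end colours

end CfsgLib.DlStab
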