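import Cfsg.Agent.Lib.DlStab.Quasi

/-!
A vector whose stabiliser has derived length at most nine.
-/

set_option autoImplicit false
set_option linter.style.haveILetI false

open Subgroup

namespace CfsgLib.DlStab

open CfsgLib.OddBase

universe u

theorem outcome_of_image {A G : Type u} [Group A] [Group G] {V : Type u} [AddCommGroup V]
    (f : A →* G) (hf : Function.Surjective f) {σ : G →* AddMonoid.End V} (h : Outcome σ) :
    Outcome (σ.comp f) := by
  have horb : ∀ {x y : V}, SameOrbit (σ.comp f) x y → SameOrbit σ x y := fun {x y} ⟨a, ha⟩ =>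
    ⟨f a, ha⟩
  have hgood : ∀ {n : ℕ} {v : V}, Good σ n v → Good (σ.comp f) n v := by
    intro n v hv a ha
    have h1 : f a ∈ ser ((stab (σ.comp f) v).map f) n := map_ser f _ n ▸ mem_map_of_mem f ha
    have hle : (stab (σ.comp f) v).map f ≤ stab σ v := by
      rintro _ ⟨b, hb, rfl⟩; exact hb
    have h2 : σ (f a) = 1 := mem_ker.1 (hv (ser_mono hle n h1))
    exact mem_ker.2 h2
  rcases h with ⟨p, hp, hd⟩ | ⟨d, hd8, hd, h⟩
  · exact Or.inl ⟨p, fun i => hgood (hp i), fun i j hij => hd i j (horb hij)⟩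
  · refine Or.inr ⟨d, hd8, ser_le_ker_of_image hd, ?_⟩
    rcases h with h5 | ⟨x, y, hx, hy, hxy, hv⟩
    · exact Or.inl h5
    · exact Or.inr ⟨x, y, hx, hy, fun e => hxy (horb e), fun v hv0 => hgood (hv v hv0)⟩

/-- Irreducible actions satisfy the invariant. -/
theorem outcome_of_irr : ∀ (n : ℕ) (A : Type u) [Group A] [Finite A] [Group.IsSolvable A]
    (V : Type u) [AddCommGroup V] [Finite V] (ρ : A →* AddMonoid.End V),
    Nat.card V = n → Irr ρ → Outcome ρ := by
  intro n
  induction n using Nat.strong_induction_on with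
  | _ n IH =>
  intro A _ _ _ V _ _ ρ hn hirr
  rcases subsingleton_or_nontrivial V with hV | hV
  · refine Or.inr ⟨0, by norm_num, ?_, Or.inl (by norm_num)⟩
    intro a _
    exact mem_ker.2 (AddMonoidHom.ext fun v => Subsingleton.elim _ _)
  obtain ⟨G, _, _, _, f, σ, hf, hσ, hirrσ, rfl⟩ := exists_image ρ hirr
  refine outcome_of_image f hf ?_
  rcases quasi_or_blocks hσ hirrσ with ⟨U, hU⟩ | ⟨M, hM, _, ⟨B⟩⟩
  · exact outcome_of_quasi hU
  · have hb2 : 2 ≤ M.index := by
      have h0 : M.index ≠ 0 := FiniteIndex.index_ne_zero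
      have h1 : M.index ≠ 1 := fun e => hM.1 (Subgroup.index_eq_one.1 e)
      omega
    have hlt : Nat.card (block B) < n := by
      rw [← hn, card_eq B]
      calc Nat.card (block B) = Nat.card (block B) ^ 1 := (pow_one _).symm
        _ < _ := Nat.pow_lt_pow_right (two_le_card_block B) (by omega)
    exact outcome_of_blocks B hM (IH _ hlt M (block B) (blockRep B) rfl (blockRep_irr B hirrσ))

/-- Completely reducible actions have a vector with stabiliser of derived length at most nine. -/
theorem exists_good_nine {A : Type u} [Group A] [Finite A] [Group.IsSolvable A] :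
    ∀ {V : Type u} [AddCommGroup V] [Finite V] (ρ : A →* AddMonoid.End V), CR ρ →
      ∃ v, Good ρ 9 v := by
  suffices H : ∀ (n : ℕ) (V : Type u) [AddCommGroup V] [Finite V] (ρ : A →* AddMonoid.End V),
      Nat.card V = n → CR ρ → ∃ v, Good ρ 9 v from fun {V} _ _ ρ hc => H _ V ρ rfl hc
  intro n
  induction n using Nat.strong_induction_on with
  | _ n IH =>
  intro V _ _ ρ hn hc
  by_cases hi : Irr ρ
  · exact (outcome_of_irr n A V ρ hn hi).exists_good
  obtain ⟨X, Y, hX, hY, hinf, hsup, h2X, h2Y⟩ := exists_split hc hi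
  have hcard := card_mul_of_split hinf hsup
  obtain ⟨x, hx⟩ := IH _ (by rw [← hn, hcard]; exact lt_mul_of_one_lt_right Nat.card_pos h2Y)
    X (res ρ X hX) rfl (hc.res X hX)
  obtain ⟨y, hy⟩ := IH _ (by rw [← hn, hcard]; exact lt_mul_of_one_lt_left Nat.card_pos h2X)
    Y (res ρ Y hY) rfl (hc.res Y hY)
  exact ⟨(x : V) + y, good_add hX hY hinf hsup hx hy⟩

end CfsgLib.DlStab
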