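import Mathlib

/-!
The numerical inequality for groups of odd order.
-/

set_option autoImplicit false

namespace CfsgLib.DlStab.OddSizes

theorem growth : ∀ e : ℕ, 27 ≤ e → 4096 * e ^ 18 ≤ 512 * 9261 * 7 ^ e ∧ e ^ 12 ≤ 7 ^ (e - 2) := by
  intro e he
  induction e, he using Nat.le_induction with
  | base => norm_num
  | succ n hn ih =>
    have h1 : ∀ k, ((n + 1) * 27) ^ k ≤ (28 * n) ^ k := fun k => Nat.pow_le_pow_left (by omega) _
    have step : ∀ k, (28 : ℕ) ^ k ≤ 7 * 27 ^ k → (n + 1) ^ k ≤ 7 * n ^ k := by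
      intro k hk
      have h2 := h1 k
      rw [mul_pow, mul_pow] at h2
      refine Nat.le_of_mul_le_mul_right ?_ (pow_pos (show 0 < 27 by norm_num) k)
      calc (n + 1) ^ k * 27 ^ k ≤ 28 ^ k * n ^ k := h2
        _ ≤ (7 * 27 ^ k) * n ^ k := Nat.mul_le_mul_right _ hk
        _ = _ := by ring
    constructor
    · calc 4096 * (n + 1) ^ 18 ≤ 4096 * (7 * n ^ 18) :=
            Nat.mul_le_mul_left _ (step 18 (by norm_num))
        _ = 7 * (4096 * n ^ 18) := by ring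
        _ ≤ 7 * (512 * 9261 * 7 ^ n) := Nat.mul_le_mul_left _ ih.1
        _ = _ := by rw [pow_succ]; ring
    · calc (n + 1) ^ 12 ≤ 7 * n ^ 12 := step 12 (by norm_num)
        _ ≤ 7 * 7 ^ (n - 2) := Nat.mul_le_mul_left _ ih.2
        _ = _ := by rw [show n + 1 - 2 = n - 2 + 1 by omega, pow_succ]; ring

/-- The three terms of the count. -/
theorem main {e q s : ℕ} (he : Odd e) (he5 : 5 ≤ e) (hq : 3 ≤ q)
    (hr : ∀ r : ℕ, r.Prime → r ∣ e → 2 * r ∣ q - 1) (hs : 8 * s ≤ e ^ 4) (h5 : e = 5 → s ≤ 3)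
    (h7 : e = 7 → s ≤ 9) (h9 : e = 9 → s ≤ 5) (h11 : e = 11 → s ≤ 825) :
    ∃ α β : ℕ, α + β ≤ 30 ∧ 4096 * (e ^ 2 * (s - 1)) ^ 3 ≤ α ^ 3 * q ^ e ∧
      256 * (e ^ 2 * (s - 1) * q) ^ 2 ≤ 4 * β ^ 2 * q ^ e ∧
      4096 * (e ^ 2 * q) ^ 3 ≤ 8 * q ^ (2 * e) := by
  have hmin : ∀ r : ℕ, r.Prime → r ∣ e → 2 * r + 1 ≤ q := fun r h1 h2 => by
    have := Nat.le_of_dvd (by omega) (hr r h1 h2)
    omega
  -- the second condition after cancelling the square of the field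
  have hβ : ∀ {X β : ℕ}, 256 * X ^ 2 ≤ 4 * β ^ 2 * q ^ (e - 2) →
      256 * (X * q) ^ 2 ≤ 4 * β ^ 2 * q ^ e := by
    intro X β h
    calc 256 * (X * q) ^ 2 = 256 * X ^ 2 * q ^ 2 := by ring
      _ ≤ 4 * β ^ 2 * q ^ (e - 2) * q ^ 2 := Nat.mul_le_mul_right _ h
      _ = _ := by rw [mul_assoc, ← pow_add, show e - 2 + 2 = e by omega]
  have hγ : ∀ {m : ℕ}, m ≤ q → 512 * e ^ 6 ≤ m ^ (2 * e - 3) →
      4096 * (e ^ 2 * q) ^ 3 ≤ 8 * q ^ (2 * e) := by
    intro m hm h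
    calc 4096 * (e ^ 2 * q) ^ 3 = 8 * (512 * e ^ 6) * q ^ 3 := by ring
      _ ≤ 8 * q ^ (2 * e - 3) * q ^ 3 :=
          Nat.mul_le_mul_right _ (Nat.mul_le_mul_left _ (h.trans (Nat.pow_le_pow_left hm _)))
      _ = _ := by rw [mul_assoc, ← pow_add, show 2 * e - 3 + 3 = 2 * e by omega]
  have gen : ∀ (m X α β : ℕ), m ≤ q → α + β ≤ 30 → e ^ 2 * (s - 1) ≤ X →
      4096 * X ^ 3 ≤ α ^ 3 * m ^ e → 256 * X ^ 2 ≤ 4 * β ^ 2 * m ^ (e - 2) →
      512 * e ^ 6 ≤ m ^ (2 * e - 3) →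
      ∃ α β : ℕ, α + β ≤ 30 ∧ 4096 * (e ^ 2 * (s - 1)) ^ 3 ≤ α ^ 3 * q ^ e ∧
        256 * (e ^ 2 * (s - 1) * q) ^ 2 ≤ 4 * β ^ 2 * q ^ e ∧
        4096 * (e ^ 2 * q) ^ 3 ≤ 8 * q ^ (2 * e) := by
    intro m X α β hm hab hX c1 c2 c3
    refine ⟨α, β, hab, ?_, hβ ?_, hγ hm c3⟩
    · exact ((Nat.mul_le_mul_left _ (Nat.pow_le_pow_left hX 3)).trans c1).trans
        (Nat.mul_le_mul_left _ (Nat.pow_le_pow_left hm e))
    · exact ((Nat.mul_le_mul_left _ (Nat.pow_le_pow_left hX 2)).trans c2).trans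
        (Nat.mul_le_mul_left _ (Nat.pow_le_pow_left hm _))
  have hbig : e ^ 2 * (s - 1) ≤ e ^ 6 / 8 := by
    rw [Nat.le_div_iff_mul_le (by norm_num)]
    calc e ^ 2 * (s - 1) * 8 ≤ e ^ 2 * (8 * s) := by
          rw [mul_assoc]; exact Nat.mul_le_mul_left _ (by omega)
      _ ≤ e ^ 2 * e ^ 4 := Nat.mul_le_mul_left _ hs
      _ = _ := by ring
  by_cases h27 : 27 ≤ e
  · obtain ⟨g1, g2⟩ := growth e h27
    have h8 : e ^ 6 / 8 * 8 ≤ e ^ 6 := Nat.div_mul_le_self _ _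
    have hm : 7 ≤ q := by
      obtain ⟨r, h1, h2⟩ := Nat.exists_prime_and_dvd (show e ≠ 1 by omega)
      have := hmin r h1 h2
      have := h1.two_le
      have hr2 : r ≠ 2 := by
        rintro rfl
        exact (Nat.not_even_iff_odd.2 he) (even_iff_two_dvd.2 h2)
      omega
    refine gen 7 (e ^ 6 / 8) 21 8 hm (by norm_num) hbig ?_ ?_ ?_
    · refine Nat.le_of_mul_le_mul_left ?_ (show 0 < 512 by norm_num)
      calc 512 * (4096 * (e ^ 6 / 8) ^ 3) = 4096 * (e ^ 6 / 8 * 8) ^ 3 := by ring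
        _ ≤ 4096 * (e ^ 6) ^ 3 := Nat.mul_le_mul_left _ (Nat.pow_le_pow_left h8 3)
        _ = 4096 * e ^ 18 := by ring
        _ ≤ 512 * 9261 * 7 ^ e := g1
        _ = _ := by ring
    · refine Nat.le_of_mul_le_mul_left ?_ (show 0 < 64 by norm_num)
      calc 64 * (256 * (e ^ 6 / 8) ^ 2) = 256 * (e ^ 6 / 8 * 8) ^ 2 := by ring
        _ ≤ 256 * (e ^ 6) ^ 2 := Nat.mul_le_mul_left _ (Nat.pow_le_pow_left h8 2)
        _ = 256 * e ^ 12 := by ring
        _ ≤ 256 * 7 ^ (e - 2) := Nat.mul_le_mul_left _ g2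
        _ ≤ _ := by
            have := Nat.zero_le (7 ^ (e - 2))
            norm_num
    · calc 512 * e ^ 6 ≤ 7 ^ 4 * 7 ^ (e - 2) :=
            Nat.mul_le_mul (by norm_num) ((Nat.pow_le_pow_right (by omega) (by norm_num)).trans g2)
        _ = 7 ^ (4 + (e - 2)) := (pow_add _ _ _).symm
        _ ≤ _ := Nat.pow_le_pow_right (by norm_num) (by omega)
  obtain ⟨k, rfl⟩ := he
  have : k ≤ 12 := by omega
  have : 2 ≤ k := by omega
  interval_cases k
  · -- five
    exact gen 11 50 15 12 (hmin 5 (by norm_num) (by norm_num)) (by norm_num)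
      (by have := h5 rfl; omega) (by norm_num) (by norm_num) (by norm_num)
  · -- seven
    exact gen 15 392 21 8 (hmin 7 (by norm_num) (by norm_num)) (by norm_num)
      (by have := h7 rfl; omega) (by norm_num) (by norm_num) (by norm_num)
  · -- nine
    exact gen 7 324 21 8 (hmin 3 (by norm_num) (by norm_num)) (by norm_num)
      (by have := h9 rfl; omega) (by norm_num) (by norm_num) (by norm_num)
  · -- eleven
    exact gen 23 99704 21 8 (hmin 11 (by norm_num) (by norm_num)) (by norm_num)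
      (by have := h11 rfl; omega) (by norm_num) (by norm_num) (by norm_num)
  · exact gen 27 _ 21 8 (hmin 13 (by norm_num) (by norm_num)) (by norm_num) hbig
      (by norm_num) (by norm_num) (by norm_num)
  · -- fifteen
    refine gen 31 _ 21 8 ?_ (by norm_num) hbig (by norm_num) (by norm_num) (by norm_num)
    have h6 := hr 3 (by norm_num) (by norm_num)
    have h10 := hr 5 (by norm_num) (by norm_num)
    have := Nat.le_of_dvd (by omega) (Nat.lcm_dvd h6 h10)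
    norm_num at this
    omega
  · exact gen 35 _ 21 8 (hmin 17 (by norm_num) (by norm_num)) (by norm_num) hbig
      (by norm_num) (by norm_num) (by norm_num)
  · exact gen 39 _ 21 8 (hmin 19 (by norm_num) (by norm_num)) (by norm_num) hbig
      (by norm_num) (by norm_num) (by norm_num)
  · -- twenty-one
    refine gen 43 _ 21 8 ?_ (by norm_num) hbig (by norm_num) (by norm_num) (by norm_num)
    have h6 := hr 3 (by norm_num) (by norm_num)
    have h14 := hr 7 (by norm_num) (by norm_num)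
    have := Nat.le_of_dvd (by omega) (Nat.lcm_dvd h6 h14)
    norm_num at this
    omega
  · exact gen 47 _ 21 8 (hmin 23 (by norm_num) (by norm_num)) (by norm_num) hbig
      (by norm_num) (by norm_num) (by norm_num)
  · exact gen 11 _ 21 8 (hmin 5 (by norm_num) (by norm_num)) (by norm_num) hbig
      (by norm_num) (by norm_num) (by norm_num)

end CfsgLib.DlStab.OddSizes
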