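import Cfsg.Agent.Lib.DlStab.Orbits
import Cfsg.Agent.Lib.DlStab.Colour
import Cfsg.Agent.Lib.DlStab.OddSizes
import Cfsg.Agent.Lib.OddBase.Main
import Cfsg.Agent.Lib.PF.OddOrder

/-!
A vector with abelian stabiliser for groups of odd order in odd characteristic.
-/

set_option autoImplicit false
set_option linter.style.haveILetI false

open Subgroup
open scoped commutatorElement

namespace CfsgLib.DlStab

open CfsgLib.OddBase

universe u

variable {A : Type u} [Group A] [Finite A] {V : Type u} [AddCommGroup V] [Finite V]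
  {ρ : A →* AddMonoid.End V}

omit [Finite A] in
/-- In a group of odd order no nonzero vector is its own negative. -/
theorem eq_zero_of_eq_neg (hV : Odd (Nat.card V)) {v : V} (h : v = -v) : v = 0 := by
  have h2 : (2 : ℕ) • v = 0 := by rw [two_nsmul]; nth_rewrite 2 [h]; exact add_neg_cancel v
  have hd : addOrderOf v ∣ Nat.gcd 2 (Nat.card V) :=
    Nat.dvd_gcd (addOrderOf_dvd_iff_nsmul_eq_zero.2 h2) (addOrderOf_dvd_natCard v)
  rw [(Nat.coprime_two_left.2 hV).gcd_eq_one, Nat.dvd_one, AddMonoid.addOrderOf_eq_one_iff] at hd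
  exact hd

omit [Finite A] in
theorem odd_card_addSubgroup (hV : Odd (Nat.card V)) (X : AddSubgroup V) : Odd (Nat.card X) :=
  hV.of_dvd_nat X.card_addSubgroup_dvd_card

/-- A pair with trivial stabiliser gives eight pairs. -/
theorem eight_mul_card_le {G : Type u} [Group G] [Finite G] (hG : Odd (Nat.card G)) {W : Type u}
    [AddCommGroup W] [Finite W] (hW : Odd (Nat.card W)) (h5 : 5 ≤ Nat.card W)
    (φ : G →* AddMonoid.End W) (hφ : Function.Injective φ) {p : W × W} (hp : Free φ p) :
    8 * Nat.card G ≤ Nat.card W * Nat.card W := by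
  classical
  cases nonempty_fintype W
  rw [Nat.card_eq_fintype_card] at h5
  -- a better pair
  obtain ⟨x, y, hx, hy, hyx, hyx', hfree⟩ : ∃ x y : W, x ≠ 0 ∧ y ≠ 0 ∧ y ≠ x ∧ y ≠ -x ∧
      Free φ (x, y) := by
    have hother : ∀ x : W, ∃ y, y ≠ 0 ∧ y ≠ x ∧ y ≠ -x := fun x => by
      obtain ⟨y, -, hy⟩ := Finset.exists_mem_notMem_of_card_lt_card (s := ({0, x, -x} : Finset W))
        (t := Finset.univ) (lt_of_le_of_lt Finset.card_le_three (by rw [Finset.card_univ]; omega))
      simp only [Finset.mem_insert, Finset.mem_singleton, not_or] at hy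
      exact ⟨y, hy⟩
    obtain ⟨v, w⟩ := p
    by_cases hv : v = 0
    · by_cases hw : w = 0
      · obtain ⟨x, hx, -⟩ := hother 0
        obtain ⟨y, h1, h2, h3⟩ := hother x
        exact ⟨x, y, hx, h1, h2, h3, fun a _ _ => hp a (by simp [hv]) (by simp [hw])⟩
      · obtain ⟨y, h1, h2, h3⟩ := hother w
        exact ⟨w, y, hw, h1, h2, h3, fun a ha _ => hp a (by simp [hv]) ha⟩
    · by_cases hw : w = 0 ∨ w = v ∨ w = -v
      · obtain ⟨y, h1, h2, h3⟩ := hother v
        refine ⟨v, y, hv, h1, h2, h3, fun a ha _ => hp a ha ?_⟩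
        rcases hw with rfl | rfl | rfl
        · exact map_zero _
        · exact ha
        · show φ a (-v) = -v
          rw [map_neg, ha]
      · push Not at hw
        exact ⟨v, w, hv, hw.1, hw.2.1, hw.2.2, hp⟩
  let z : Bool → W := fun b => if b then y else x
  let sg : Bool → W → W := fun b w => if b then -w else w
  let F : G × Bool × Bool × Bool → W × W := fun q =>
    (φ q.1 (sg q.2.1 (z q.2.2.2)), φ q.1 (sg q.2.2.1 (z (!q.2.2.2))))
  have hxn : x ≠ -x := fun e => hx (eq_zero_of_eq_neg hW e)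
  have hyn : y ≠ -y := fun e => hy (eq_zero_of_eq_neg hW e)
  have hdist : ∀ b c b' c', sg b (z c) = sg b' (z c') → b = b' ∧ c = c' := by
    intro b c b' c' h
    cases b <;> cases c <;> cases b' <;> cases c' <;> simp only [sg, z, Bool.false_eq_true,
      if_true, if_false] at h <;> first
      | exact ⟨rfl, rfl⟩
      | exact absurd h hxn
      | exact absurd h.symm hxn
      | exact absurd h hyn
      | exact absurd h.symm hyn
      | exact absurd h hyx
      | exact absurd h.symm hyx
      | exact absurd h hyx'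
      | exact absurd h.symm hyx'
      | exact absurd (neg_inj.1 h) hyx
      | exact absurd (neg_inj.1 h).symm hyx
      | exact absurd (neg_eq_iff_eq_neg.1 h) hyx'
      | exact absurd (neg_eq_iff_eq_neg.1 h.symm) hyx'
  have hF : Function.Injective F := by
    rintro ⟨a, i, j, k⟩ ⟨b, i', j', k'⟩ h
    simp only [F, Prod.mk.injEq] at h
    obtain ⟨h1, h2⟩ := h
    set c := b⁻¹ * a with hc
    have e1 : φ c (sg i (z k)) = sg i' (z k') := by
      rw [hc, apply_mul, h1, apply_inv_apply]
    have e2 : φ c (sg j (z (!k))) = sg j' (z (!k')) := by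
      rw [hc, apply_mul, h2, apply_inv_apply]
    -- the two basic vectors go to signed basic vectors
    have hsigned : ∀ (m n : Bool) (s t : Bool), φ c (sg s (z m)) = sg t (z n) →
        φ c (z m) = sg (xor s t) (z n) := by
      intro m n s t h
      cases s <;> cases t <;> simp only [sg, Bool.false_eq_true, if_true, if_false, map_neg,
        Bool.xor_false, Bool.false_xor, Bool.xor_true, Bool.not_false, Bool.not_true] at h ⊢
      · exact h
      · exact h
      · exact neg_eq_iff_eq_neg.1 h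
      · exact neg_inj.1 h
    have f1 := hsigned _ _ _ _ e1
    have f2 := hsigned _ _ _ _ e2
    -- so a fourth power fixes both
    have hsq : ∀ m, φ (c * c) (z m) = z m ∨ φ (c * c) (z m) = -z m := by
      intro m
      rw [apply_mul]
      cases k <;> cases k' <;> cases m <;> simp only [Bool.not_false, Bool.not_true] at f1 f2 <;>
        (first | rw [f1] | rw [f2]) <;>
        · generalize xor i i' = s at *
          generalize xor j j' = t at *
          cases s <;> cases t <;> simp only [sg, Bool.false_eq_true, if_true, if_false] at f1 f2 ⊢ <;>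
            simp [map_neg, f1, f2]
    have hfix : ∀ m, φ ((c * c) * (c * c)) (z m) = z m := by
      intro m
      rw [apply_mul]
      rcases hsq m with h | h
      · rw [h, h]
      · rw [h, map_neg, h, neg_neg]
    have hc4 : φ ((c * c) * (c * c)) = 1 := hfree _ (hfix false) (hfix true)
    have hc1 : φ c = 1 := eq_one_of_sq hG φ (by
      rw [← map_mul]
      exact eq_one_of_sq hG φ (by rw [← map_mul]; exact hc4))
    have hab : a = b := by
      have := hφ (hc1.trans (map_one φ).symm)
      exact (inv_mul_eq_one.1 this).symm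
    rw [hc1] at e1 e2
    obtain ⟨r1, r2⟩ := hdist _ _ _ _ (show sg i (z k) = _ from e1)
    obtain ⟨r3, -⟩ := hdist _ _ _ _ (show sg j (z (!k)) = _ from e2)
    subst hab r1 r2 r3
    rfl
  have := Nat.card_le_card_of_injective F hF
  simp only [Nat.card_prod] at this
  rw [show Nat.card Bool = 2 by simp] at this
  omega

variable [Nontrivial V] {U E : Subgroup A}

/-- The count giving a vector fixed by no element centralising the scalars. -/
theorem exists_stab_inf_eq_bot (hA : Odd (Nat.card A)) (hVodd : Odd (Nat.card V)) (h : Quasi ρ U)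
    (hL : Layer U E) {e l : ℕ} [U.Normal] [E.Normal] [(U.subgroupOf E).Normal] [IsCyclic U]
    [Group.IsSolvable A] (he : U.relIndex E = e ^ 2) (he2 : 2 ≤ e) (hel : e ≤ l)
    (hVl : Nat.card V = Nat.card (scalarRing ρ U) ^ l)
    (hrU : ∀ r : ℕ, r.Prime → r ∣ e → r ∣ Nat.card U) :
    ∃ v : V, v ≠ 0 ∧ stab ρ v ⊓ centralizer (U : Set A) = ⊥ := by
  classical
  set C := centralizer (U : Set A) with hC
  set q := Nat.card (scalarRing ρ U) with hqdef
  set s := Nat.card (C.map hL.act) with hsdef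
  obtain ⟨hq, -, -, hdv⟩ := prime_data h he2 hrU
  have heodd : Odd e := by
    have hT : Odd (U.relIndex E) := hA.of_dvd_nat
      ((Subgroup.card_quotient_dvd_card _).trans (Subgroup.card_subgroup_dvd_card E))
    rw [he, Nat.odd_pow_iff (by norm_num : 2 ≠ 0)] at hT
    exact hT
  have he3 : 3 ≤ e := by obtain ⟨k, rfl⟩ := heodd; omega
  have hqodd : Odd q := by
    rw [hVl, Nat.odd_pow_iff (show l ≠ 0 by omega)] at hVodd
    exact hVodd
  -- twice the scalars
  have hU2 : 2 * Nat.card U ≤ q := by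
    obtain ⟨c, hc⟩ := hqodd
    have hUodd : Odd (Nat.card U) := hA.of_dvd_nat (Subgroup.card_subgroup_dvd_card U)
    have hd := card_dvd_sub_one h
    rw [← hqdef, hc, show 2 * c + 1 - 1 = 2 * c by omega] at hd
    have := Nat.le_of_dvd (by omega) ((Nat.coprime_two_right.2 hUodd).dvd_of_dvd_mul_left hd)
    omega
  have hr2 : ∀ r : ℕ, r.Prime → r ∣ e → 2 * r ∣ q - 1 := by
    intro r hr hre
    have hr' : r ≠ 2 := by
      rintro rfl
      exact (Nat.not_even_iff_odd.2 heodd) (even_iff_two_dvd.2 hre)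
    refine Nat.Coprime.mul_dvd_of_dvd_of_dvd
      ((Nat.coprime_primes Nat.prime_two hr).2 hr'.symm) ?_ (hdv r hr hre)
    obtain ⟨c, hc⟩ := hqodd
    exact ⟨c, by omega⟩
  have hFT : FTCons.OddSolvable.{u} := CfsgLib.PF.oddSolvable
  have hT : U.relIndex E < Nat.card V := by
    rw [he, hVl]; exact sq_lt_pow hq hel
  obtain ⟨-, hs3, hs5, hs7, hs9⟩ :=
    layer_image_bound hFT hA h hL (smallBased hFT _) hT he
  letI : CommGroup (E ⧸ U.subgroupOf E) :=
    { (inferInstance : Group (E ⧸ U.subgroupOf E)) with mul_comm := hL.quot_comm }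
  have hW : Nat.card (E ⧸ U.subgroupOf E) = e ^ 2 := he
  have hSodd : Odd s := hA.of_dvd_nat
    ((Subgroup.card_dvd_of_surjective (hL.act.subgroupMap C) (hL.act.subgroupMap_surjective C)).trans
      (Subgroup.card_subgroup_dvd_card C))
  have hs8 : 8 * s ≤ e ^ 4 := by
    obtain ⟨pr, hpr⟩ := exists_pair hFT hA (addRep hL.act) (act_cr h hL)
    have hW' : Nat.card (Additive (E ⧸ U.subgroupOf E)) = e ^ 2 := by
      rw [Nat.card_congr (Additive.toMul (α := E ⧸ U.subgroupOf E))]; exact hW
    have h8 := eight_mul_card_le (W := Additive (E ⧸ U.subgroupOf E)) hSodd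
      (by rw [hW']; exact heodd.pow) (by rw [hW']; nlinarith)
      (addRep (C.map hL.act).subtype)
      (fun a b hab => by
        have h1 : addRep (C.map hL.act).subtype (b⁻¹ * a) = 1 := by
          rw [map_mul, hab, ← map_mul, inv_mul_cancel, map_one]
        rw [addRep_eq_one] at h1
        exact (inv_mul_eq_one.1 (Subtype.ext h1)).symm)
      (p := pr) (fun a h1 h2 => by
        obtain ⟨_, b, hb, rfl⟩ := a
        exact (addRep_eq_one _ _).2 ((addRep_eq_one _ _).1 (hpr b h1 h2)))
    rw [hW'] at h8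
    calc 8 * s ≤ e ^ 2 * e ^ 2 := h8
      _ = e ^ 4 := by ring
  have hs11 : e = 11 → s ≤ 825 := by
    rintro rfl
    haveI : Fact (Nat.Prime 11) := ⟨by norm_num⟩
    have h1 : s ∣ ∏ i : Fin 2, (11 ^ 2 - 11 ^ (i : ℕ)) :=
      card_dvd_aut hW (pow_eq_one_of_CR hW hL.act (act_cr h hL)) (C.map hL.act).subtype
        Subtype.val_injective
    simp [Fin.prod_univ_two] at h1
    have h2 : s ∣ 2 ^ 4 * 825 := by norm_num; exact h1
    exact Nat.le_of_dvd (by norm_num)
      (((Nat.coprime_two_left.2 hSodd).pow_left 4).symm.dvd_of_dvd_mul_left h2)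
  have hspos : 1 ≤ s := Nat.card_pos
  -- the counts
  cases nonempty_fintype A
  cases nonempty_fintype V
  let G1 : Finset A := (Finset.univ.filter fun g => g ∈ E).erase 1
  let G2 : Finset A := Finset.univ.filter fun g => g ∈ C ∧ g ∉ E
  have hEcard : Nat.card E = Nat.card U * e ^ 2 := by
    rw [← he, ← relIndex_bot_left, ← relIndex_bot_left,
      relIndex_mul_relIndex ⊥ U E bot_le hL.le]
  have hfilter : ∀ H : Subgroup A, (Finset.univ.filter fun g => g ∈ H).card = Nat.card H := by
    intro H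
    rw [Nat.card_eq_fintype_card, Fintype.card_subtype]
  have hG1 : G1.card ≤ Nat.card U * e ^ 2 := by
    refine le_trans Finset.card_erase_le ?_
    rw [hfilter, hEcard]
  have hG2 : G2.card = Nat.card U * e ^ 2 * (s - 1) := by
    have h1 : G2 = (Finset.univ.filter fun g => g ∈ C) \ (Finset.univ.filter fun g => g ∈ E) := by
      ext g; simp [G2]
    have h2 : (Finset.univ.filter fun g => g ∈ E) ⊆ Finset.univ.filter fun g => g ∈ C := by
      intro g hg
      simp only [Finset.mem_filter, Finset.mem_univ, true_and] at hg ⊢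
      exact hL.le_cent hg
    rw [h1, Finset.card_sdiff_of_subset h2, hfilter, hfilter, hEcard, hC, card_centralizer hL he,
      ← hC, ← hsdef, Nat.mul_sub, mul_one]
  have hU1 : ∀ g ∈ E, g ≠ 1 → fs ρ g ^ 3 ≤ Nat.card V := by
    intro g hg hg1
    by_cases hgU : g ∈ U
    · rw [h.fs_eq_one hgU hg1, one_pow]; exact Nat.card_pos
    · obtain ⟨y, hy, hne⟩ := hL.exists_comm_ne_one hg hgU
      exact h.fs_cube_le hA (fun u hu => (hL.commute hu hg).symm)
        (fun u hu => (hL.commute hu hy).symm) (hL.comm g hg y hy) hne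
  have hU2' : ∀ g ∈ G2, fs ρ g ^ 3 ≤ Nat.card V ^ 2 := by
    intro g hg
    obtain ⟨-, hgC, hgE⟩ := Finset.mem_filter.1 hg
    obtain ⟨y, hy, hne⟩ := hL.exists_comm_ne_one' hgC (fun e1 => hgE (hL.le e1))
    have hb : ⁅g, y⁆ ∈ E := by
      rw [commutatorElement_def]
      exact E.mul_mem (hL.normal.conj_mem y hy g) (E.inv_mem hy)
    rw [← Nat.pow_le_pow_iff_left (show (2 : ℕ) ≠ 0 by norm_num)]
    calc (fs ρ g ^ 3) ^ 2 = (fs ρ g ^ 2) ^ 3 := by ring
      _ ≤ (Nat.card V * fs ρ ⁅g, y⁆) ^ 3 := Nat.pow_le_pow_left (fs_sq_le ρ g y) 3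
      _ = Nat.card V ^ 3 * fs ρ ⁅g, y⁆ ^ 3 := mul_pow _ _ _
      _ ≤ Nat.card V ^ 3 * Nat.card V := Nat.mul_le_mul_left _ (hU1 _ hb hne)
      _ = _ := by ring
  -- two elements of a coset fix little
  let Big : Finset A := G2.filter fun g => Nat.card V < fs ρ g ^ 2
  have hone : ∀ g ∈ Big, ∀ g' ∈ Big, g⁻¹ * g' ∈ U → g = g' := by
    intro g hg g' hg' hu
    by_contra hne
    have hprod : fs ρ g * fs ρ g' ≤ Nat.card V := by
      rw [fs, fs, ← Nat.card_prod]
      refine Nat.card_le_card_of_injective (fun p : fixed ρ g × fixed ρ g' => (p.1 : V) + p.2) ?_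
      rintro ⟨a, b⟩ ⟨a', b'⟩ e1
      have hm : (a : V) - a' = (b' : V) - b := by
        rw [sub_eq_sub_iff_add_eq_add, add_comm (b' : V)]; exact e1
      have h1 : ρ g ((a : V) - a') = (a : V) - a' := by rw [map_sub, a.2, a'.2]
      have h2 : ρ g' ((a : V) - a') = (a : V) - a' := by rw [hm, map_sub, b.2, b'.2]
      have h3 : ρ (g⁻¹ * g') ((a : V) - a') = (a : V) - a' := by
        rw [apply_mul, h2]
        conv_lhs => rw [← h1]
        exact apply_inv_apply _ _ _
      have h4 := h.apply_eq_self hu (fun e2 => hne (inv_mul_eq_one.1 e2)) h3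
      rw [hm] at h4
      refine Prod.ext (Subtype.ext (sub_eq_zero.1 (hm.trans h4))) (Subtype.ext (sub_eq_zero.1 h4).symm)
    have b1 := (Finset.mem_filter.1 hg).2
    have b2 := (Finset.mem_filter.1 hg').2
    have b3 : Nat.card V * Nat.card V < fs ρ g ^ 2 * fs ρ g' ^ 2 := Nat.mul_lt_mul'' b1 b2
    have b4 := Nat.mul_le_mul hprod hprod
    nlinarith
  have hBig : Big.card ≤ e ^ 2 * (s - 1) := by
    refine Nat.le_of_mul_le_mul_left ?_ (Nat.card_pos (α := U))
    have hle : (Big ×ˢ (Finset.univ.filter fun z => z ∈ U)).card ≤ G2.card := by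
      refine Finset.card_le_card_of_injOn (fun p => p.1 * p.2) ?_ ?_
      · rintro ⟨g, z⟩ hp
        simp only [Finset.coe_product, Set.mem_prod, Finset.mem_coe, Finset.mem_filter,
          Finset.mem_univ, true_and] at hp
        obtain ⟨hg, hz⟩ := hp
        obtain ⟨-, hgC, hgE⟩ := Finset.mem_filter.1 (Finset.mem_filter.1 hg).1
        exact Finset.mem_filter.2 ⟨Finset.mem_univ _, C.mul_mem hgC (hL.le_cent (hL.le hz)),
          fun e1 => hgE (by simpa using E.mul_mem e1 (E.inv_mem (hL.le hz)))⟩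
      · rintro ⟨g, z⟩ hp ⟨g', z'⟩ hp' e1
        simp only [Finset.coe_product, Set.mem_prod, Finset.mem_coe, Finset.mem_filter,
          Finset.mem_univ, true_and] at hp hp'
        have e2 : g * z = g' * z' := e1
        have hu : g⁻¹ * g' ∈ U := by
          have : g⁻¹ * g' = z * z'⁻¹ := by
            rw [eq_mul_inv_iff_mul_eq, mul_assoc, ← e2, inv_mul_cancel_left]
          rw [this]; exact U.mul_mem hp.2 (U.inv_mem hp'.2)
        have hgg := hone g hp.1 g' hp'.1 hu
        subst hgg
        exact Prod.ext rfl (mul_left_cancel e2)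
    rw [Finset.card_product, hfilter, hG2] at hle
    calc Nat.card U * Big.card = Big.card * Nat.card U := mul_comm _ _
      _ ≤ Nat.card U * e ^ 2 * (s - 1) := hle
      _ = _ := mul_assoc _ _ _
  -- the total
  have hVq : q ^ e ≤ Nat.card V := hVl ▸ Nat.pow_le_pow_right (by omega) hel
  have hq5 : 5 ≤ q := by
    obtain ⟨r, h1, h2⟩ := Nat.exists_prime_and_dvd (show e ≠ 1 by omega)
    have h3 := Nat.le_of_dvd (by omega) (hr2 r h1 h2)
    have := h1.two_le
    omega
  have hV27 : 125 ≤ Nat.card V := le_trans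
    (le_trans (show 125 ≤ 5 ^ 3 by norm_num) (Nat.pow_le_pow_left hq5 3))
    (le_trans (Nat.pow_le_pow_right (by omega) he3) hVq)
  have total : 16 * ((∑ g ∈ G1, fs ρ g) + ∑ g ∈ G2, fs ρ g) ≤ 31 * Nat.card V := by
    rcases Nat.eq_or_lt_of_le he3 with rfl | he5
    · -- the smallest layer
      have hs1 : s = 1 := hs3 rfl
      have hzero : G2 = ∅ := Finset.card_eq_zero.1 (by rw [hG2, hs1]; simp)
      rw [hzero, Finset.sum_empty, add_zero]
      rcases G1.eq_empty_or_nonempty with h0 | h0
      · rw [h0, Finset.sum_empty]; simp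
      obtain ⟨g₀, hg₀, hmax⟩ := G1.exists_max_image (fs ρ) h0
      have hc := hU1 g₀ (Finset.mem_filter.1 (Finset.mem_of_mem_erase hg₀)).2 (Finset.ne_of_mem_erase hg₀)
      have hsum := le_trans (Finset.sum_le_card_nsmul G1 _ _ hmax)
        (Nat.mul_le_mul_right _ hG1)
      refine le_trans (Nat.mul_le_mul_left 16 hsum) ?_
      rw [← Nat.pow_le_pow_iff_left (show (3 : ℕ) ≠ 0 by norm_num)]
      calc (16 * (Nat.card U * 3 ^ 2 * fs ρ g₀)) ^ 3
          = 373248 * (2 * Nat.card U) ^ 3 * fs ρ g₀ ^ 3 := by ring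
        _ ≤ 373248 * q ^ 3 * Nat.card V :=
            Nat.mul_le_mul (Nat.mul_le_mul_left _ (Nat.pow_le_pow_left hU2 3)) hc
        _ ≤ 29791 * Nat.card V * Nat.card V * Nat.card V := by
            refine Nat.mul_le_mul_right _ (Nat.mul_le_mul ?_ hVq)
            have := Nat.mul_le_mul_left 29791 hV27
            omega
        _ = _ := by ring
    have h5' : 5 ≤ e := by obtain ⟨k, rfl⟩ := heodd; omega
    obtain ⟨α, β, hab, ca, cb, cc⟩ := OddSizes.main heodd h5' hq hr2 hs8 hs5 hs7 hs9 hs11
    have hG1sum : 16 * ∑ g ∈ G1, fs ρ g ≤ Nat.card V := by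
      rcases G1.eq_empty_or_nonempty with h0 | h0
      · rw [h0, Finset.sum_empty]; simp
      obtain ⟨g₀, hg₀, hmax⟩ := G1.exists_max_image (fs ρ) h0
      have hc := hU1 g₀ (Finset.mem_filter.1 (Finset.mem_of_mem_erase hg₀)).2 (Finset.ne_of_mem_erase hg₀)
      have hsum := le_trans (Finset.sum_le_card_nsmul G1 _ _ hmax)
        (Nat.mul_le_mul_right _ hG1)
      refine le_trans (Nat.mul_le_mul_left 16 hsum) ?_
      rw [← Nat.pow_le_pow_iff_left (show (3 : ℕ) ≠ 0 by norm_num)]
      refine Nat.le_of_mul_le_mul_left ?_ (show 0 < 8 by norm_num)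
      calc 8 * (16 * (Nat.card U * e ^ 2 * fs ρ g₀)) ^ 3
          = 4096 * (e ^ 2 * (2 * Nat.card U)) ^ 3 * fs ρ g₀ ^ 3 := by ring
        _ ≤ 4096 * (e ^ 2 * q) ^ 3 * Nat.card V :=
            Nat.mul_le_mul (Nat.mul_le_mul_left _
              (Nat.pow_le_pow_left (Nat.mul_le_mul_left _ hU2) 3)) hc
        _ ≤ 8 * Nat.card V ^ 2 * Nat.card V := by
            refine Nat.mul_le_mul_right _ (cc.trans (Nat.mul_le_mul_left _ ?_))
            rw [mul_comm 2 e, pow_mul]
            exact Nat.pow_le_pow_left hVq 2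
        _ = _ := by ring
    have hG2big : 16 * ∑ g ∈ Big, fs ρ g ≤ α * Nat.card V := by
      rcases Big.eq_empty_or_nonempty with h0 | h0
      · rw [h0, Finset.sum_empty]; simp
      obtain ⟨g₀, hg₀, hmax⟩ := Big.exists_max_image (fs ρ) h0
      have hsum := le_trans (Finset.sum_le_card_nsmul Big _ _ hmax)
        (Nat.mul_le_mul_right _ hBig)
      refine le_trans (Nat.mul_le_mul_left 16 hsum) ?_
      rw [← Nat.pow_le_pow_iff_left (show (3 : ℕ) ≠ 0 by norm_num)]
      calc (16 * (e ^ 2 * (s - 1) * fs ρ g₀)) ^ 3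
          = 4096 * (e ^ 2 * (s - 1)) ^ 3 * fs ρ g₀ ^ 3 := by ring
        _ ≤ α ^ 3 * Nat.card V * Nat.card V ^ 2 :=
            Nat.mul_le_mul (ca.trans (Nat.mul_le_mul_left _ hVq))
              (hU2' g₀ (Finset.mem_filter.1 hg₀).1)
        _ = _ := by ring
    have hG2small : 16 * ∑ g ∈ G2.filter (fun g => ¬ Nat.card V < fs ρ g ^ 2), fs ρ g ≤
        β * Nat.card V := by
      rcases (G2.filter (fun g => ¬ Nat.card V < fs ρ g ^ 2)).eq_empty_or_nonempty with h0 | h0
      · rw [h0, Finset.sum_empty]; simp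
      obtain ⟨g₀, hg₀, hmax⟩ := (G2.filter _).exists_max_image (fs ρ) h0
      have hsum := le_trans (Finset.sum_le_card_nsmul _ _ _ hmax)
        (Nat.mul_le_mul_right _ ((Finset.card_filter_le _ _).trans hG2.le))
      refine le_trans (Nat.mul_le_mul_left 16 hsum) ?_
      rw [← Nat.pow_le_pow_iff_left (show (2 : ℕ) ≠ 0 by norm_num)]
      refine Nat.le_of_mul_le_mul_left ?_ (show 0 < 4 by norm_num)
      calc 4 * (16 * (Nat.card U * e ^ 2 * (s - 1) * fs ρ g₀)) ^ 2
          = 256 * (e ^ 2 * (s - 1) * (2 * Nat.card U)) ^ 2 * fs ρ g₀ ^ 2 := by ring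
        _ ≤ 256 * (e ^ 2 * (s - 1) * q) ^ 2 * Nat.card V :=
            Nat.mul_le_mul (Nat.mul_le_mul_left _
              (Nat.pow_le_pow_left (Nat.mul_le_mul_left _ hU2) 2))
              (not_lt.1 (Finset.mem_filter.1 hg₀).2)
        _ ≤ 4 * β ^ 2 * Nat.card V * Nat.card V :=
            Nat.mul_le_mul_right _ (cb.trans (Nat.mul_le_mul_left _ hVq))
        _ = _ := by ring
    rw [← Finset.sum_filter_add_sum_filter_not G2 (fun g => Nat.card V < fs ρ g ^ 2)]
    have hαβ : (α + β) * Nat.card V ≤ 30 * Nat.card V := Nat.mul_le_mul_right _ hab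
    rw [Nat.add_mul] at hαβ
    change 16 * ∑ g ∈ G2.filter (fun g => Nat.card V < fs ρ g ^ 2), fs ρ g ≤ _ at hG2big
    omega
  -- a free nonzero vector
  let P := {v : V // v ≠ 0}
  let Sfun : P → Subgroup C := fun v => (stab ρ (v : V)).subgroupOf C
  haveI : Fintype C := Fintype.ofFinite C
  obtain ⟨⟨v, hv⟩, hfree⟩ : ∃ v : P, Sfun v = ⊥ := by
    refine exists_free (hA.of_dvd_nat (Subgroup.card_subgroup_dvd_card C)) Sfun ?_
    have hterm : ∀ g : C, Nat.card {v : P // g ∈ Sfun v} ≤ fs ρ (g : A) := fun g =>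
      Nat.card_le_card_of_injective (fun v => (⟨(v.1 : V), v.2⟩ : fixed ρ (g : A))) fun a b e1 =>
        Subtype.ext (Subtype.ext (congrArg (fun z : fixed ρ (g : A) => (z : V)) e1))
    refine lt_of_le_of_lt (Finset.sum_le_sum fun g _ => hterm g) ?_
    have hPcard : Nat.card P = Nat.card V - 1 := by
      rw [Nat.card_eq_fintype_card, Nat.card_eq_fintype_card, Fintype.card_subtype_compl,
        Fintype.card_subtype_eq]
    rw [hPcard]
    have hsplit : ∑ g ∈ Finset.univ.erase (1 : C), fs ρ (g : A) =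
        (∑ g ∈ G1, fs ρ g) + ∑ g ∈ G2, fs ρ g := by
      rw [← Finset.sum_union (Finset.disjoint_left.2 fun g hg1 hg2 =>
        (Finset.mem_filter.1 hg2).2.2 (Finset.mem_filter.1 (Finset.mem_of_mem_erase hg1)).2)]
      refine Finset.sum_nbij (fun g : C => (g : A)) ?_ ?_ ?_ fun g _ => rfl
      · intro g hg
        rw [Finset.mem_union]
        by_cases hgE : (g : A) ∈ E
        · exact Or.inl (Finset.mem_erase.2 ⟨fun e1 => Finset.ne_of_mem_erase hg (Subtype.ext e1),
            Finset.mem_filter.2 ⟨Finset.mem_univ _, hgE⟩⟩)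
        · exact Or.inr (Finset.mem_filter.2 ⟨Finset.mem_univ _, g.2, hgE⟩)
      · exact fun a _ b _ e1 => Subtype.ext e1
      · intro g hg
        simp only [Finset.coe_union, Set.mem_union, Finset.mem_coe] at hg
        rcases hg with hg | hg
        · exact ⟨⟨g, hL.le_cent (Finset.mem_filter.1 (Finset.mem_of_mem_erase hg)).2⟩,
            Finset.mem_coe.2 (Finset.mem_erase.2 ⟨fun e1 => Finset.ne_of_mem_erase hg
              (congrArg Subtype.val e1), Finset.mem_univ _⟩), rfl⟩
        · exact ⟨⟨g, (Finset.mem_filter.1 hg).2.1⟩, Finset.mem_coe.2 (Finset.mem_erase.2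
            ⟨fun e1 => (Finset.mem_filter.1 hg).2.2
              (by rw [show g = 1 from congrArg Subtype.val e1]; exact E.one_mem),
              Finset.mem_univ _⟩), rfl⟩
    rw [hsplit]
    omega
  refine ⟨v, hv, ?_⟩
  rw [eq_bot_iff]
  rintro a ⟨ha, haC⟩
  have : (⟨a, haC⟩ : C) ∈ Sfun ⟨v, hv⟩ := ha
  rw [hfree, mem_bot] at this
  exact mem_bot.2 (congrArg Subtype.val this)

/-- Irreducible actions have a nonzero vector with abelian stabiliser. -/
theorem good_one_of_irr (n : ℕ) : ∀ (A : Type u) [Group A] [Finite A] [Group.IsSolvable A]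
    (V : Type u) [AddCommGroup V] [Finite V] [Nontrivial V] (ρ : A →* AddMonoid.End V),
    Odd (Nat.card A) → Odd (Nat.card V) → Nat.card V = n → Irr ρ → ∃ v, v ≠ 0 ∧ Good ρ 1 v := by
  induction n using Nat.strong_induction_on with
  | _ n IH =>
  intro A _ _ _ V _ _ _ ρ hA hV hn hirr
  obtain ⟨G, _, _, _, f, σ, hf, hσ, hirrσ, rfl⟩ := exists_image ρ hirr
  have hG : Odd (Nat.card G) := hA.of_dvd_nat (Subgroup.card_dvd_of_surjective f hf)
  suffices H : ∃ v, v ≠ 0 ∧ Good σ 1 v by
    obtain ⟨v, hv, hgood⟩ := H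
    refine ⟨v, hv, fun a ha => ?_⟩
    have h1 : f a ∈ ser ((stab (σ.comp f) v).map f) 1 := map_ser f _ 1 ▸ mem_map_of_mem f ha
    have hle : (stab (σ.comp f) v).map f ≤ stab σ v := by
      rintro _ ⟨b, hb, rfl⟩; exact hb
    have h2 : σ (f a) = 1 := mem_ker.1 (hgood (ser_mono hle 1 h1))
    exact mem_ker.2 h2
  rcases quasi_or_blocks hσ hirrσ with ⟨U, hU⟩ | ⟨M, hM, _, ⟨B⟩⟩
  · haveI := hU.normal
    obtain ⟨v₀, hv₀⟩ := exists_ne (0 : V)
    by_cases hCU : centralizer (U : Set G) ≤ U
    · exact ⟨v₀, hv₀, (ser_stab_one_of_centralizer_le hU hCU hv₀).le.trans bot_le⟩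
    obtain ⟨E, e, l, hL, he, he2, hel, hVl, hrU⟩ := exists_layer_data hU hCU
    haveI := hL.normal
    haveI := hL.normal_quot
    haveI := hU.isCyclic
    obtain ⟨v, hv, hbot⟩ := exists_stab_inf_eq_bot hG hV hU hL he he2 hel hVl hrU
    refine ⟨v, hv, ?_⟩
    have h1 : ser (stab σ v) 1 ≤ stab σ v ⊓ centralizer (U : Set G) :=
      le_inf (ser_le_self _ 1) ((ser_mono le_top 1).trans (ser_one_le_centralizer hU))
    rw [hbot] at h1
    exact h1.trans bot_le
  · classical
    have hb2 : 2 ≤ M.index := by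
      have h0 : M.index ≠ 0 := FiniteIndex.index_ne_zero
      have h1 : M.index ≠ 1 := fun e => hM.1 (Subgroup.index_eq_one.1 e)
      omega
    haveI : Nontrivial (block B) := Finite.one_lt_card_iff_nontrivial.1 (two_le_card_block B)
    have hlt : Nat.card (block B) < n := by
      rw [← hn, card_eq B]
      calc Nat.card (block B) = Nat.card (block B) ^ 1 := (pow_one _).symm
        _ < _ := Nat.pow_lt_pow_right (two_le_card_block B) (by omega)
    have hBodd := odd_card_addSubgroup hV (block B)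
    obtain ⟨x, hx, hgood⟩ := IH _ hlt M (block B) (blockRep B)
      (hG.of_dvd_nat (Subgroup.card_subgroup_dvd_card M)) hBodd rfl (blockRep_irr B hirrσ)
    have hFT : FTCons.OddSolvable.{u} := CfsgLib.PF.oddSolvable
    obtain ⟨s, hs⟩ := exists_set hFT (smallBased hFT (M.index + 1)) hG hM (Nat.lt_succ_self _)
    let p : Fin 2 → block B := ![x, -x]
    have hxn : ¬ SameOrbit (blockRep B) x (-x) := by
      rintro ⟨a, ha⟩
      refine hx (eq_zero_of_eq_neg hBodd ?_)
      have h2 : blockRep B (a * a) x = x := by rw [apply_mul, ha, map_neg, ha, neg_neg]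
      -- a power of the square gives back the element
      obtain ⟨k, hk⟩ := hG.of_dvd_nat (Subgroup.card_subgroup_dvd_card M)
      have hpow : (a * a) ^ (k + 1) = a := by
        rw [← pow_two, ← pow_mul, show 2 * (k + 1) = Nat.card M + 1 by omega, pow_succ,
          pow_card_eq_one', one_mul]
      have hiter : ∀ m : ℕ, blockRep B ((a * a) ^ m) x = x := by
        intro m
        induction m with
        | zero => rw [pow_zero, map_one]; rfl
        | succ m ih => rw [pow_succ, apply_mul, h2, ih]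
      have h3 := hiter (k + 1)
      rw [hpow, ha] at h3
      exact h3.symm
    have hp : ∀ i j, SameOrbit (blockRep B) (p i) (p j) → i = j := by
      intro i j h
      fin_cases i <;> fin_cases j
      · rfl
      · exact absurd h hxn
      · exact absurd h.symm hxn
      · rfl
    let f' : G ⧸ M → Fin 2 := fun z => if z ∈ s then 0 else 1
    refine ⟨colVec B p f', fun e => hx ?_, good_colVec B p hp f' 1 fun z => ⟨0, 1, le_rfl, ?_, ?_⟩⟩
    · have h1 := congrFun (glue_inj B (c' := fun _ => 0) (e.trans (glue_zero B).symm))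
        ((1 : G) : G ⧸ M)
      by_cases hz : ((1 : G) : G ⧸ M) ∈ s <;> simp [p, f', hz] at h1 <;> exact h1
    · by_cases hz : z ∈ s
      · simpa [p, f', hz] using hgood
      · have hneg : stab (blockRep B) (-x) ≤ stab (blockRep B) x := fun a ha => by
          rw [mem_stab, map_neg, neg_inj] at ha; exact ha
        have : Good (blockRep B) 1 (-x) := (ser_mono hneg 1).trans hgood
        simpa [p, f', hz] using this
    · intro g hg
      refine hs g ?_ z
      intro w
      have h := mem_colStab.1 (ser_le_self _ 0 hg) w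
      by_cases hw : w ∈ s <;> by_cases hw' : g • w ∈ s <;> simp [f', hw, hw'] at h ⊢

/-- A vector with abelian stabiliser. -/
theorem exists_good_one {A : Type u} [Group A] [Finite A] [Group.IsSolvable A]
    (hA : Odd (Nat.card A)) : ∀ {V : Type u} [AddCommGroup V] [Finite V]
      (ρ : A →* AddMonoid.End V), Odd (Nat.card V) → CR ρ → ∃ v, Good ρ 1 v := by
  suffices H : ∀ (n : ℕ) (V : Type u) [AddCommGroup V] [Finite V] (ρ : A →* AddMonoid.End V),
      Nat.card V = n → Odd (Nat.card V) → CR ρ → ∃ v, Good ρ 1 v from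
    fun {V} _ _ ρ hV hc => H _ V ρ rfl hV hc
  intro n
  induction n using Nat.strong_induction_on with
  | _ n IH =>
  intro V _ _ ρ hn hV hc
  by_cases hi : Irr ρ
  · rcases subsingleton_or_nontrivial V with h | h
    · exact ⟨0, fun a _ => mem_ker.2 (AddMonoidHom.ext fun v => Subsingleton.elim _ _)⟩
    · obtain ⟨v, -, hv⟩ := good_one_of_irr n A V ρ hA hV hn hi
      exact ⟨v, hv⟩
  obtain ⟨X, Y, hX, hY, hinf, hsup, h2X, h2Y⟩ := exists_split hc hi
  have hcard := card_mul_of_split hinf hsup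
  obtain ⟨x, hx⟩ := IH _ (by rw [← hn, hcard]; exact lt_mul_of_one_lt_right Nat.card_pos h2Y)
    X (res ρ X hX) rfl (odd_card_addSubgroup hV X) (hc.res X hX)
  obtain ⟨y, hy⟩ := IH _ (by rw [← hn, hcard]; exact lt_mul_of_one_lt_left Nat.card_pos h2X)
    Y (res ρ Y hY) rfl (odd_card_addSubgroup hV Y) (hc.res Y hY)
  exact ⟨(x : V) + y, good_add hX hY hinf hsup hx hy⟩

end CfsgLib.DlStab
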