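import Cfsg.Agent.Lib.DlStab.Scalar
import Cfsg.Agent.Lib.TripleBase.Main

/-!
Counting orbits, fixed vectors and the size of the group in a quasi-primitive action.
-/

set_option autoImplicit false
set_option linter.style.haveILetI false

open Subgroup
open scoped commutatorElement

namespace CfsgLib.DlStab

open CfsgLib.OddBase

universe u

variable {A : Type u} [Group A] [Finite A] {V : Type u} [AddCommGroup V] [Finite V]
  {ρ : A →* AddMonoid.End V}

/-- Many vectors give many orbits. -/
theorem exists_orbit_reps (S : Finset V) :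
    ∀ m : ℕ, m * Nat.card A < S.card + Nat.card A →
      ∃ p : Fin m → V, (∀ i, p i ∈ S) ∧ ∀ i j, SameOrbit ρ (p i) (p j) → i = j := by
  classical
  intro m
  induction m with
  | zero => exact fun _ => ⟨Fin.elim0, fun i => i.elim0, fun i => i.elim0⟩
  | succ m ih =>
    intro hm
    rw [Nat.add_mul, one_mul] at hm
    obtain ⟨p, hpS, hp⟩ := ih (by omega)
    cases nonempty_fintype A
    obtain ⟨w, hwS, hw⟩ := Finset.exists_mem_notMem_of_card_lt_card
      (s := (Finset.univ : Finset (Fin m × A)).image fun q => ρ q.2 (p q.1)) (t := S) (by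
        refine lt_of_le_of_lt Finset.card_image_le ?_
        rw [Finset.card_univ, Fintype.card_prod, Fintype.card_fin, ← Nat.card_eq_fintype_card]
        omega)
    have hnew : ∀ i, ¬ SameOrbit ρ (p i) w := by
      rintro i ⟨a, ha⟩
      exact hw (Finset.mem_image.2 ⟨(i, a), Finset.mem_univ _, ha⟩)
    refine ⟨Fin.snoc p w, fun i => ?_, fun i j h => ?_⟩
    · refine Fin.lastCases ?_ (fun i => ?_) i
      · rw [Fin.snoc_last]; exact hwS
      · rw [Fin.snoc_castSucc]; exact hpS i
    · induction i using Fin.lastCases with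
      | last =>
        induction j using Fin.lastCases with
        | last => rfl
        | cast j => rw [Fin.snoc_last, Fin.snoc_castSucc] at h; exact absurd h.symm (hnew j)
      | cast i =>
        induction j using Fin.lastCases with
        | last => rw [Fin.snoc_last, Fin.snoc_castSucc] at h; exact absurd h (hnew i)
        | cast j =>
          rw [Fin.snoc_castSucc, Fin.snoc_castSucc] at h
          exact congrArg Fin.castSucc (hp i j h)

/-- Five regular orbits when all fixed spaces are small. -/
theorem manyGood_regular (n : ℕ) (hA : 6 * Nat.card A ≤ Nat.card V)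
    (hfix : ∀ g : A, g ≠ 1 → 6 * Nat.card A * fs ρ g ≤ Nat.card V) : ManyGood ρ n 5 := by
  classical
  cases nonempty_fintype A
  cases nonempty_fintype V
  let Bad : Finset V := (Finset.univ.erase (1 : A)).biUnion fun g => Finset.univ.filter fun v => ρ g v = v
  have hbad : 6 * Bad.card ≤ Nat.card V := by
    refine le_trans (Nat.mul_le_mul_left 6 Finset.card_biUnion_le) ?_
    refine Nat.le_of_mul_le_mul_left ?_ (Nat.card_pos (α := A))
    rw [← mul_assoc, Finset.mul_sum]
    refine le_trans (Finset.sum_le_card_nsmul _ _ (Nat.card V) fun g hg => ?_) ?_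
    · have hfs : (Finset.univ.filter fun v => ρ g v = v).card = fs ρ g := by
        rw [fs, ← Fintype.card_coe, ← Nat.card_eq_fintype_card]
        exact Nat.card_congr (Equiv.subtypeEquivRight fun v => by simp [mem_fixed])
      rw [hfs, mul_comm (Nat.card A) 6]
      exact hfix g (Finset.ne_of_mem_erase hg)
    · rw [smul_eq_mul]
      refine Nat.mul_le_mul_right _ (le_trans Finset.card_erase_le ?_)
      rw [Finset.card_univ, Nat.card_eq_fintype_card]
  have hS : 5 * Nat.card A < Badᶜ.card + Nat.card A := by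
    rw [Finset.card_compl, ← Nat.card_eq_fintype_card]
    have := Nat.card_pos (α := A)
    omega
  obtain ⟨p, hpS, hp⟩ := exists_orbit_reps (ρ := ρ) Badᶜ 5 hS
  refine ⟨p, fun i => ?_, hp⟩
  have hbot : stab ρ (p i) = ⊥ := by
    rw [eq_bot_iff]
    intro g hg
    by_contra hne
    refine Finset.mem_compl.1 (hpS i) (Finset.mem_biUnion.2 ⟨g, ?_, ?_⟩)
    · exact Finset.mem_erase.2 ⟨fun e => hne (mem_bot.2 e), Finset.mem_univ _⟩
    · exact Finset.mem_filter.2 ⟨Finset.mem_univ _, hg⟩
  rw [Good, hbot]
  exact (ser_le_self _ n).trans bot_le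

/-- Nonzero vectors in five orbits. -/
theorem manyGood_nonzero {n : ℕ} (hgood : ∀ v : V, v ≠ 0 → Good ρ n v)
    (h : 4 * Nat.card A + 1 < Nat.card V) : ManyGood ρ n 5 := by
  classical
  cases nonempty_fintype V
  obtain ⟨p, hpS, hp⟩ := exists_orbit_reps (ρ := ρ) (Finset.univ.erase (0 : V)) 5 (by
    rw [Finset.card_erase_of_mem (Finset.mem_univ _), Finset.card_univ, ← Nat.card_eq_fintype_card]
    omega)
  exact ⟨p, fun i => hgood _ (Finset.ne_of_mem_erase (hpS i)), hp⟩

/-- In a transitive action the number of nonzero vectors divides the order. -/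
theorem dvd_card_of_transitive [Nontrivial V]
    (ht : ∀ x y : V, x ≠ 0 → y ≠ 0 → SameOrbit ρ x y) : Nat.card V - 1 ∣ Nat.card A := by
  obtain ⟨v, hv⟩ := exists_ne (0 : V)
  let f : A ⧸ stab ρ v → {w : V // w ≠ 0} := fun q => Quotient.liftOn' q
    (fun a => ⟨ρ a v, fun e => hv (apply_injective ρ a (e.trans (map_zero _).symm))⟩)
    fun a b h => by
      rw [QuotientGroup.leftRel_apply] at h
      refine Subtype.ext ?_
      have h1 : ρ (a⁻¹ * b) v = v := h
      rw [apply_mul] at h1
      have h2 := congrArg (ρ a) h1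
      rw [apply_apply_inv] at h2
      exact h2.symm
  have hf : Function.Bijective f := by
    refine ⟨fun a b h => ?_, fun ⟨w, hw⟩ => ?_⟩
    · induction a using QuotientGroup.induction_on with
      | _ a =>
        induction b using QuotientGroup.induction_on with
        | _ b =>
          rw [QuotientGroup.eq, mem_stab, apply_mul]
          have h1 : ρ a v = ρ b v := congrArg Subtype.val h
          rw [← h1, apply_inv_apply]
    · obtain ⟨a, ha⟩ := ht v w hv hw
      exact ⟨(a : A ⧸ stab ρ v), Subtype.ext ha⟩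
  have h1 : (stab ρ v).index = Nat.card V - 1 := by
    classical
    cases nonempty_fintype V
    rw [Subgroup.index, Nat.card_eq_of_bijective f hf, Nat.card_eq_fintype_card,
      Fintype.card_subtype_compl, Fintype.card_subtype_eq, Nat.card_eq_fintype_card]
  exact h1 ▸ (stab ρ v).index_dvd_card

section quasi

variable [Nontrivial V] {U E : Subgroup A}

/-- Every nontrivial element fixes at most the three-quarters power. -/
theorem fs_pow_four_le (h : Quasi ρ U) (hL : Layer U E) {g : A} (hg : g ≠ 1) :
    fs ρ g ^ 4 ≤ Nat.card V ^ 3 := by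
  have hE : ∀ b ∈ E, b ≠ 1 → fs ρ b ^ 2 ≤ Nat.card V := by
    intro b hb hb1
    by_cases hbU : b ∈ U
    · rw [h.fs_eq_one hbU hb1]; exact Nat.card_pos
    · obtain ⟨y, hy, hne⟩ := hL.exists_comm_ne_one hb hbU
      exact h.fs_sq_le_card (x := y) (hL.comm b hb y hy) hne
  have hsq : fs ρ g ^ 2 ≤ Nat.card V → fs ρ g ^ 4 ≤ Nat.card V ^ 3 := fun h2 => by
    calc fs ρ g ^ 4 = (fs ρ g ^ 2) ^ 2 := by ring
      _ ≤ Nat.card V ^ 2 := Nat.pow_le_pow_left h2 2
      _ ≤ _ := Nat.pow_le_pow_right Nat.card_pos (by norm_num)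
  by_cases hC : g ∈ centralizer (U : Set A)
  · by_cases hgU : g ∈ U
    · rw [h.fs_eq_one hgU hg, one_pow]; exact Nat.one_le_pow _ _ Nat.card_pos
    obtain ⟨y, hy, hne⟩ := hL.exists_comm_ne_one' hC hgU
    have hb : ⁅g, y⁆ ∈ E := by
      rw [commutatorElement_def]
      exact E.mul_mem (hL.normal.conj_mem y hy g) (E.inv_mem hy)
    calc fs ρ g ^ 4 = (fs ρ g ^ 2) ^ 2 := by ring
      _ ≤ (Nat.card V * fs ρ ⁅g, y⁆) ^ 2 := Nat.pow_le_pow_left (fs_sq_le ρ g y) 2
      _ = Nat.card V ^ 2 * fs ρ ⁅g, y⁆ ^ 2 := mul_pow _ _ _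
      _ ≤ Nat.card V ^ 2 * Nat.card V := Nat.mul_le_mul_left _ (hE _ hb hne)
      _ = _ := by ring
  · refine hsq ?_
    rw [mem_centralizer_iff] at hC
    push Not at hC
    obtain ⟨x, hx, hne⟩ := hC
    refine h.fs_sq_le_card (x := x) ?_ fun e1 => hne ?_
    · rw [commutatorElement_def]
      exact U.mul_mem (h.normal.conj_mem x hx g) (U.inv_mem hx)
    · exact (commutatorElement_eq_one_iff_mul_comm.1 e1).symm

variable [U.Normal] [E.Normal] [(U.subgroupOf E).Normal] [IsCyclic U]

/-- The order of the centraliser of the scalars. -/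
theorem card_centralizer (hL : Layer U E) {e : ℕ} (he : U.relIndex E = e ^ 2) :
    Nat.card (centralizer (U : Set A)) =
      Nat.card U * e ^ 2 * Nat.card ((centralizer (U : Set A)).map hL.act) := by
  set C := centralizer (U : Set A) with hC
  have h1 := hL.inf_ker_act
  have hUE : Nat.card E = Nat.card U * e ^ 2 := by
    rw [← he, ← relIndex_bot_left, ← relIndex_bot_left,
      relIndex_mul_relIndex ⊥ U E bot_le hL.le]
  rw [← hUE]
  have h2 := (hL.act.domRestrict C).ker.card_mul_index
  rw [index_ker, MonoidHom.domRestrict_range] at h2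
  have h3 : (hL.act.domRestrict C).ker.map C.subtype = E := by
    refine Eq.trans ?_ h1
    ext x
    constructor
    · rintro ⟨y, hy, rfl⟩; exact ⟨y.2, hy⟩
    · rintro ⟨hx1, hx2⟩; exact ⟨⟨x, hx1⟩, hx2, rfl⟩
  have h4 : Nat.card E = Nat.card (hL.act.domRestrict C).ker :=
    (congrArg (fun K : Subgroup A => Nat.card K) h3).symm.trans
      (Subgroup.card_map_of_injective C.subtype_injective)
  rw [← h2, h4]

/-- The group induced on the layer has a base of three points. -/
theorem card_image_le [Group.IsSolvable A] (h : Quasi ρ U) (hL : Layer U E) {e : ℕ}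
    (he : U.relIndex E = e ^ 2) :
    Nat.card ((centralizer (U : Set A)).map hL.act) ≤ (e ^ 2) ^ 3 := by
  letI : CommGroup (E ⧸ U.subgroupOf E) :=
    { (inferInstance : Group (E ⧸ U.subgroupOf E)) with mul_comm := hL.quot_comm }
  obtain ⟨p, hp⟩ := TripleBase.exists_triple (addRep hL.act) (act_cr h hL)
  set S := (centralizer (U : Set A)).map hL.act
  refine (Nat.card_le_card_of_injective (fun (s : S) (i : Fin 3) =>
    (Additive.ofMul (s.1 (p i).toMul) : Additive (E ⧸ U.subgroupOf E))) ?_).trans (le_of_eq ?_)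
  · rintro ⟨_, a, ha, rfl⟩ ⟨_, b, hb, rfl⟩ hab
    apply Subtype.ext
    have hfix : ∀ i, addRep hL.act (b⁻¹ * a) (p i) = p i := by
      intro i
      have hx : hL.act a (p i).toMul = hL.act b (p i).toMul :=
        congrArg Additive.toMul (congrFun hab i)
      rw [addRep_apply, map_mul, MulAut.mul_apply, hx, map_inv, MulAut.inv_apply_self]
      rfl
    have h1 := hp _ hfix
    rw [addRep_eq_one, map_mul, map_inv, inv_mul_eq_one] at h1
    exact h1.symm
  · rw [Nat.card_fun, Nat.card_fin, Nat.card_congr (Additive.toMul (α := E ⧸ U.subgroupOf E))]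
    exact congrArg (· ^ 3) he

/-- The order of the group. -/
theorem card_le [Group.IsSolvable A] (h : Quasi ρ U) (hL : Layer U E) {e : ℕ}
    (he : U.relIndex E = e ^ 2) (hq : 3 ≤ Nat.card (scalarRing ρ U)) :
    Nat.card A ≤ Nat.card (scalarRing ρ U) ^ 2 * e ^ 8 := by
  rw [← (centralizer (U : Set A)).index_mul_card, card_centralizer hL he]
  calc (centralizer (U : Set A)).index *
        (Nat.card U * e ^ 2 * Nat.card ((centralizer (U : Set A)).map hL.act))
      ≤ Nat.card (scalarRing ρ U) * (Nat.card (scalarRing ρ U) * e ^ 2 * (e ^ 2) ^ 3) :=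
        Nat.mul_le_mul (by have := h.index_centralizer_le hq; omega)
          (Nat.mul_le_mul (Nat.mul_le_mul_right _ h.card_lt.le) (card_image_le h hL he))
    _ = _ := by ring

end quasi

end CfsgLib.DlStab
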