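import Cfsg.Agent.Lib.DlStab.Table

/-!
Soluble groups permuting at most six points.
-/

set_option autoImplicit false
set_option linter.style.haveILetI false

open Subgroup
open scoped commutatorElement

namespace CfsgLib.DlStab

universe u v

/-- A soluble subgroup of the symmetric group of degree five has index at least five. -/
theorem five_le_index {H : Subgroup (Equiv.Perm (Fin 5))} [Group.IsSolvable H] : 5 ≤ H.index := by
  by_contra hlt
  push Not at hlt
  have h0 : H.index ≠ 0 := FiniteIndex.index_ne_zero
  let f := MulAction.toPermHom (Equiv.Perm (Fin 5)) (Equiv.Perm (Fin 5) ⧸ H)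
  have hq : Nat.card (Equiv.Perm (Fin 5) ⧸ H) ≤ 4 := by
    rw [← Subgroup.index]; omega
  haveI hs4 : Group.IsSolvable (Equiv.Perm (Equiv.Perm (Fin 5) ⧸ H)) := by
    classical
    haveI := Fintype.ofFinite (Equiv.Perm (Fin 5) ⧸ H)
    refine CfsgLib.InvCharSmall.isSolvable_perm_of_card_le_four ?_
    exact hq
  haveI : Group.IsSolvable f.range :=
    Group.isSolvable_of_isSolvable_injective (f := f.range.subtype) Subtype.val_injective
  haveI : Group.IsSolvable f.ker := by
    have hle : f.ker ≤ H := by
      rw [← Subgroup.normalCore_eq_ker]; exact H.normalCore_le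
    exact Group.isSolvable_of_isSolvable_injective (f := Subgroup.inclusion hle)
      (Subgroup.inclusion_injective hle)
  haveI : Group.IsSolvable (Equiv.Perm (Fin 5)) :=
    Group.isSolvable_of_ker_le_range f.ker.subtype f.rangeRestrict
      (by rw [MonoidHom.ker_rangeRestrict, Subgroup.range_subtype])
  exact Equiv.Perm.fin_5_not_solvable inferInstance

theorem card_le_of_solvable_perm_five {H : Subgroup (Equiv.Perm (Fin 5))} [Group.IsSolvable H] :
    Nat.card H ≤ 24 := by
  have h1 := H.card_mul_index
  rw [Nat.card_perm, Nat.card_fin] at h1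
  have h2 : Nat.card H * 5 ≤ Nat.card H * H.index := Nat.mul_le_mul_left _ five_le_index
  simp only [Nat.factorial] at h1
  omega

variable {A : Type u} [Group A] [Finite A] [Group.IsSolvable A] {X : Type v} [MulAction A X]

/-- The derived series of a group fixing a finite set setwise, on that set. -/
theorem fix_set_small (S : Subgroup A) (t : Finset X) (hinv : ∀ g ∈ S, ∀ x ∈ t, g • x ∈ t) :
    (t.card ≤ 2 → ∀ g ∈ ser S 1, ∀ x ∈ t, g • x = x) ∧
    (t.card ≤ 3 → ∀ g ∈ ser S 2, ∀ x ∈ t, g • x = x) ∧
    (t.card ≤ 5 → ∀ g ∈ ser S 3, ∀ x ∈ t, g • x = x) := by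
  classical
  letI : MulAction S t :=
    { smul := fun g x => ⟨(g : A) • (x : X), hinv g g.2 x x.2⟩
      one_smul := fun x => Subtype.ext (one_smul A (x : X))
      mul_smul := fun g h x => Subtype.ext (mul_smul (g : A) (h : A) (x : X)) }
  let f : S →* Equiv.Perm t := MulAction.toPermHom S t
  have hker : ∀ n, derivedSeries f.range n = ⊥ → ∀ g ∈ ser S n, ∀ x ∈ t, g • x = x := by
    intro n hn g hg x hx
    have h1 := ser_top_le_of_map f hn
    rw [ser_eq_derivedSeries, ← ser_top] at hg
    obtain ⟨k, hk, rfl⟩ := hg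
    exact congrArg Subtype.val (Equiv.congr_fun (MonoidHom.mem_ker.1 (h1 hk)) ⟨x, hx⟩)
  have hcard : Nat.card f.range ≤ t.card.factorial := by
    refine le_trans (Nat.card_le_card_of_injective _ f.range.subtype_injective) ?_
    rw [Nat.card_perm, Nat.card_eq_fintype_card, Fintype.card_coe]
  haveI : Group.IsSolvable f.range := Group.isSolvable_of_surjective f.rangeRestrict_surjective
  haveI : Finite f.range := Finite.of_injective _ f.range.subtype_injective
  refine ⟨fun h => hker 1 ?_, fun h => hker 2 (derived_two_of_card_le ?_),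
    fun h => hker 3 (derived_three_of_card_le ?_)⟩
  · refine derived_succ_eq_bot ?_
    rw [derivedSeries_zero, Subgroup.card_top]
    exact le_trans hcard ((Nat.factorial_le h).trans (by decide))
  · exact le_trans hcard ((Nat.factorial_le h).trans (by decide))
  · rcases Nat.lt_or_eq_of_le h with h4 | h5
    · exact le_trans hcard ((Nat.factorial_le (Nat.le_of_lt_succ h4)).trans (by decide))
    · let e : t ≃ Fin 5 := (t.equivFin).trans (finCongr h5)
      let g : f.range →* Equiv.Perm (Fin 5) := e.permCongrHom.toMonoidHom.comp f.range.subtype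
      have hg : Function.Injective g := e.permCongrHom.injective.comp Subtype.val_injective
      haveI : Group.IsSolvable g.range := Group.isSolvable_of_surjective g.rangeRestrict_surjective
      rw [Nat.card_congr (MonoidHom.ofInjective hg).toEquiv]
      exact card_le_of_solvable_perm_five

/-- Six points need four steps. -/
theorem fix_set_six (S : Subgroup A) (t : Finset X) (hinv : ∀ g ∈ S, ∀ x ∈ t, g • x ∈ t)
    (h6 : t.card ≤ 6) : ∀ g ∈ ser S 4, ∀ x ∈ t, g • x = x := by
  classical
  intro g hg x hx
  set O : Finset X := t.filter (fun y => ∃ a ∈ S, a • x = y) with hO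
  have hmemO : ∀ {y}, y ∈ O ↔ ∃ a ∈ S, a • x = y := fun {y} => by
    simp only [hO, Finset.mem_filter]
    exact ⟨fun h => h.2, fun h => ⟨by obtain ⟨a, ha, rfl⟩ := h; exact hinv a ha x hx, h⟩⟩
  have hxO : x ∈ O := hmemO.2 ⟨1, S.one_mem, one_smul A x⟩
  have hOinv : ∀ a ∈ S, ∀ y ∈ O, a • y ∈ O := by
    intro a ha y hy
    obtain ⟨b, hb, rfl⟩ := hmemO.1 hy
    exact hmemO.2 ⟨a * b, S.mul_mem ha hb, mul_smul a b x⟩
  have hOle : O.card ≤ 6 := le_trans (Finset.card_filter_le _ _) h6
  by_cases h5 : O.card ≤ 5
  · exact (fix_set_small S O hOinv).2.2 h5 g (ser_antitone S (by norm_num) hg) x hxO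
  -- the transitive case
  set P : Subgroup S := (MulAction.stabilizer A x).subgroupOf S with hP
  have hindex : P.index = 6 := by
    have e : (S ⧸ P) ≃ O := by
      refine Equiv.ofBijective (fun q => Quotient.liftOn' q
        (fun a => (⟨(a : A) • x, hmemO.2 ⟨a, a.2, rfl⟩⟩ : O)) fun a b h => ?_) ⟨?_, ?_⟩
      · rw [QuotientGroup.leftRel_apply] at h
        have h1 : ((a : A)⁻¹ * b) • x = x := MulAction.mem_stabilizer_iff.1 h
        rw [mul_smul, inv_smul_eq_iff] at h1
        exact Subtype.ext h1.symm
      · intro a b h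
        induction a using QuotientGroup.induction_on with
        | _ a =>
          induction b using QuotientGroup.induction_on with
          | _ b =>
            rw [QuotientGroup.eq]
            show ((a⁻¹ * b : S) : A) ∈ MulAction.stabilizer A x
            rw [MulAction.mem_stabilizer_iff]
            show ((a : A)⁻¹ * b) • x = x
            rw [mul_smul, inv_smul_eq_iff]
            exact (congrArg Subtype.val h).symm
      · rintro ⟨y, hy⟩
        obtain ⟨a, ha, rfl⟩ := hmemO.1 hy
        exact ⟨((⟨a, ha⟩ : S) : S ⧸ P), rfl⟩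
    rw [Subgroup.index, Nat.card_congr e, Nat.card_eq_fintype_card, Fintype.card_coe]
    omega
  have hPne : P ≠ ⊤ := fun e => by rw [e, Subgroup.index_top] at hindex; omega
  obtain ⟨M, hM, hle⟩ := (eq_top_or_exists_le_coatom P).resolve_left hPne
  have hmul := Subgroup.relIndex_mul_index hle
  rw [hindex] at hmul
  have hM1 : M.index ≠ 1 := fun e => hM.1 (Subgroup.index_eq_one.1 e)
  have hdvd : M.index ∣ 6 := Dvd.intro_left _ hmul
  have hMle := Nat.le_of_dvd (by norm_num) hdvd
  have htop := ser_top_le_core (tableBelow 32768 le_rfl) hM (by omega)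
  -- the orbit of the point under `M` is short
  set Q : Subgroup A := M.normalCore.map S.subtype with hQdef
  set T : Finset X := O.filter (fun y => ∃ a : S, a ∈ M ∧ (a : A) • x = y) with hT
  have hTcard : T.card ≤ P.relIndex M := by
    rw [Subgroup.relIndex, Subgroup.index, ← Fintype.card_coe, ← Nat.card_eq_fintype_card]
    have hch : ∀ y : T, ∃ a : S, a ∈ M ∧ (a : A) • x = y := fun y =>
      (Finset.mem_filter.1 (show (y : X) ∈ O.filter _ from y.2)).2
    choose a ha hax using hch
    refine Nat.card_le_card_of_injective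
      (fun y => (((⟨a y, ha y⟩ : M)) : M ⧸ P.subgroupOf M)) fun y y' h => ?_
    rw [QuotientGroup.eq] at h
    have h1 : ((a y : A)⁻¹ * a y') • x = x := MulAction.mem_stabilizer_iff.1 h
    rw [mul_smul, inv_smul_eq_iff, hax, hax] at h1
    exact Subtype.ext h1.symm
  have hQinv : ∀ a ∈ Q, ∀ y ∈ T, a • y ∈ T := by
    rintro _ ⟨a, ha, rfl⟩ y hy
    obtain ⟨hyO, b, hb, rfl⟩ := Finset.mem_filter.1 hy
    exact Finset.mem_filter.2 ⟨hOinv _ a.2 _ hyO, a * b, M.mul_mem (M.normalCore_le ha) hb,
      mul_smul (a : A) (b : A) x⟩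
  have hxT : x ∈ T := Finset.mem_filter.2 ⟨hxO, 1, M.one_mem, one_smul A x⟩
  -- collect
  have hQ : ser S (1 + dlBound M.index) ≤ Q := by
    have h1 := Subgroup.map_mono (f := S.subtype) htop
    rw [map_ser, ← MonoidHom.range_eq_map, Subgroup.range_subtype] at h1
    exact h1
  obtain ⟨f1, f2, -⟩ := fix_set_small Q T hQinv
  have hb : M.index = 2 ∨ M.index = 3 ∨ M.index = 6 := by
    have h0 : M.index ≠ 0 := FiniteIndex.index_ne_zero
    interval_cases hk : M.index
    all_goals first
      | exact absurd rfl h0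
      | exact absurd rfl hM1
      | exact Or.inl rfl
      | exact Or.inr (Or.inl rfl)
      | exact Or.inr (Or.inr rfl)
      | exact absurd hdvd (by norm_num)
  rcases hb with hb | hb | hb <;> rw [hb] at hmul hQ
  · refine f2 (by omega) g ?_ x hxT
    exact ser_mono hQ 2 (by rw [← ser_add]; exact ser_antitone S (by decide) hg)
  · refine f1 (by omega) g ?_ x hxT
    exact ser_mono hQ 1 (by rw [← ser_add]; exact ser_antitone S (by decide) hg)
  · have hT1 : T.card ≤ 1 := by omega
    have hgT : g • x ∈ T := hQinv g (hQ (ser_antitone S (by decide) hg)) x hxT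
    exact Finset.card_le_one.1 hT1 _ hgT _ hxT

end CfsgLib.DlStab
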