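import Mathlib

/-!
The numerical inequalities for quasi-primitive actions.
-/

set_option autoImplicit false

namespace CfsgLib.DlStab.Sizes

theorem huge_pow : ∀ e : ℕ, 182 ≤ e → 1296 * e ^ 32 ≤ 3 ^ (e - 8) := by
  intro e he
  induction e, he using Nat.le_induction with
  | base => norm_num
  | succ n hn ih =>
    have h1 : ((n + 1) * 182) ^ 32 ≤ (183 * n) ^ 32 := Nat.pow_le_pow_left (by omega) _
    rw [mul_pow, mul_pow] at h1
    have h2 : (183 : ℕ) ^ 32 ≤ 3 * 182 ^ 32 := by norm_num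
    have h3 : (n + 1) ^ 32 * 182 ^ 32 ≤ 3 * n ^ 32 * 182 ^ 32 := by
      calc (n + 1) ^ 32 * 182 ^ 32 ≤ 183 ^ 32 * n ^ 32 := h1
        _ ≤ (3 * 182 ^ 32) * n ^ 32 := Nat.mul_le_mul_right _ h2
        _ = _ := by ring
    have h4 := Nat.le_of_mul_le_mul_right h3 (by norm_num)
    calc 1296 * (n + 1) ^ 32 ≤ 1296 * (3 * n ^ 32) := Nat.mul_le_mul_left _ h4
      _ = 3 * (1296 * n ^ 32) := by ring
      _ ≤ 3 * 3 ^ (n - 8) := Nat.mul_le_mul_left _ ih
      _ = 3 ^ (n + 1 - 8) := by rw [show n + 1 - 8 = n - 8 + 1 by omega, pow_succ]; ring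

/-- Large layers give regular orbits. -/
theorem huge {q e : ℕ} (hq : 3 ≤ q) (he : 182 ≤ e) : (6 * (q ^ 2 * e ^ 8)) ^ 4 ≤ q ^ e := by
  calc (6 * (q ^ 2 * e ^ 8)) ^ 4 = q ^ 8 * (1296 * e ^ 32) := by ring
    _ ≤ q ^ 8 * 3 ^ (e - 8) := Nat.mul_le_mul_left _ (huge_pow e he)
    _ ≤ q ^ 8 * q ^ (e - 8) := Nat.mul_le_mul_left _ (Nat.pow_le_pow_left hq _)
    _ = q ^ e := by rw [← pow_add]; congr 1; omega

/-- Middle layers give five orbits. -/
theorem middle {q e : ℕ} (hq : 3 ≤ q) (he : 64 ≤ e) (he' : e < 182) :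
    4 * (q ^ 2 * e ^ 8) + 1 < q ^ e := by
  have h1 : 5 * e ^ 8 ≤ 3 ^ 62 :=
    le_trans (Nat.mul_le_mul_left 5 (Nat.pow_le_pow_left he'.le 8)) (by norm_num)
  have h2 : 3 ^ 62 ≤ q ^ (e - 2) :=
    le_trans (Nat.pow_le_pow_left hq 62) (Nat.pow_le_pow_right (by omega) (by omega))
  have h3 : q ^ e = q ^ 2 * q ^ (e - 2) := by rw [← pow_add]; congr 1; omega
  have h4 : q ^ 2 * (5 * e ^ 8) ≤ q ^ 2 * q ^ (e - 2) := Nat.mul_le_mul_left _ (h1.trans h2)
  have h5 : 1 ≤ e ^ 8 := Nat.one_le_pow _ _ (by omega)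
  have h6 : 9 ≤ q ^ 2 := by nlinarith
  nlinarith

theorem pow_six_lt : ∀ e : ℕ, 16 ≤ e → e ^ 6 < 3 ^ e := by
  intro e he
  induction e, he using Nat.le_induction with
  | base => norm_num
  | succ n hn ih =>
    have h1 : ((n + 1) * 16) ^ 6 ≤ (17 * n) ^ 6 := Nat.pow_le_pow_left (by omega) _
    rw [mul_pow, mul_pow] at h1
    have h2 : (17 : ℕ) ^ 6 ≤ 3 * 16 ^ 6 := by norm_num
    have h3 : (n + 1) ^ 6 * 16 ^ 6 ≤ 3 * n ^ 6 * 16 ^ 6 := by
      calc (n + 1) ^ 6 * 16 ^ 6 ≤ 17 ^ 6 * n ^ 6 := h1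
        _ ≤ (3 * 16 ^ 6) * n ^ 6 := Nat.mul_le_mul_right _ h2
        _ = _ := by ring
    have h4 := Nat.le_of_mul_le_mul_right h3 (by norm_num)
    calc (n + 1) ^ 6 ≤ 3 * n ^ 6 := h4
      _ < 3 * 3 ^ n := Nat.mul_lt_mul_of_pos_left ih (by norm_num)
      _ = 3 ^ (n + 1) := by rw [pow_succ]; ring

/-- The few layers left by the count of fixed vectors. -/
theorem residual {e r q l : ℕ} (hr : r.Prime) (hre : r ∣ e) (he : 3 ≤ e) (he4 : e ≠ 4)
    (hel : e ≤ l) (hq : 3 ≤ q) (hq6 : q ≠ 6) (hrq : r ∣ q - 1) (heven : 2 ∣ e → Odd q)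
    (h2 : r = 2 → ¬ (3 ∣ e ∨ 5 ∣ e ∨ 7 ∣ e ∨ 11 ∣ e ∨ 13 ∣ e))
    (hV : q ^ l ≤ ((e ^ 2 - 1) * r) ^ 2) :
    (e = 3 ∧ q = 4 ∧ l = 3) ∨ (e = 3 ∧ q = 4 ∧ l = 4) ∨ (e = 3 ∧ q = 7 ∧ l = 3) ∨
      (e = 8 ∧ q = 3 ∧ l = 8) := by
  have hre' : r ≤ e := Nat.le_of_dvd (by omega) hre
  have hqe : q ^ e ≤ q ^ l := Nat.pow_le_pow_right (by omega) hel
  have h3 : 3 ^ e ≤ q ^ e := Nat.pow_le_pow_left hq e
  have he16 : e < 16 := by
    by_contra hc
    have h6 : ((e ^ 2 - 1) * r) ^ 2 ≤ e ^ 6 := by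
      calc ((e ^ 2 - 1) * r) ^ 2 ≤ (e ^ 2 * e) ^ 2 :=
            Nat.pow_le_pow_left (Nat.mul_le_mul (Nat.sub_le _ _) hre') 2
        _ = e ^ 6 := by ring
    have := pow_six_lt e (not_lt.1 hc)
    omega
  have hge : r + 1 ≤ q := by
    have := Nat.le_of_dvd (by omega) hrq
    omega
  have hup : ∀ a b : ℕ, a ≤ q → b ≤ l → a ^ b ≤ q ^ l := fun a b ha hb =>
    le_trans (Nat.pow_le_pow_left ha b) (Nat.pow_le_pow_right (by omega) hb)
  interval_cases e
  · -- three
    have hr3 : r = 3 := (Nat.prime_dvd_prime_iff_eq hr Nat.prime_three).1 hre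
    subst hr3
    norm_num at hV
    have hq7 : q = 4 ∨ q = 7 := by
      have : q ≤ 8 := by
        by_contra hc
        have := hup 9 3 (by omega) hel
        omega
      interval_cases q <;> omega
    rcases hq7 with rfl | rfl
    · have : l ≤ 4 := by
        by_contra hc
        have := hup 4 5 le_rfl (by omega)
        omega
      omega
    · have : l ≤ 3 := by
        by_contra hc
        have := hup 7 4 le_rfl (by omega)
        omega
      omega
  · exact absurd rfl he4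
  · -- five
    have hr5 : r = 5 := (Nat.prime_dvd_prime_iff_eq hr (by norm_num)).1 hre
    subst hr5
    norm_num at hV
    have h11 : 11 ≤ q := by omega
    have := hup 11 5 h11 hel
    omega
  · -- six
    have hr3 : r = 3 := by
      have : r ≤ 6 := hre'
      interval_cases r <;> simp_all <;> norm_num at hr
    subst hr3
    norm_num at hV
    obtain ⟨c, hc⟩ := heven (by norm_num)
    have h7 : 7 ≤ q := by omega
    have := hup 7 6 h7 hel
    omega
  · -- seven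
    have hr7 : r = 7 := (Nat.prime_dvd_prime_iff_eq hr (by norm_num)).1 hre
    subst hr7
    norm_num at hV
    have := hup 8 7 hge hel
    omega
  · -- eight
    have hr2 : r = 2 := by
      have := hr.dvd_of_dvd_pow (show r ∣ 2 ^ 3 from hre)
      exact (Nat.prime_dvd_prime_iff_eq hr Nat.prime_two).1 this
    subst hr2
    norm_num at hV
    have hq3 : q = 3 := by
      obtain ⟨c, hc⟩ := heven (by norm_num)
      by_contra hc'
      have := hup 5 8 (by omega) hel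
      omega
    subst hq3
    have : l ≤ 8 := by
      by_contra hc
      have := hup 3 9 le_rfl (by omega)
      omega
    omega
  all_goals
    (have hr' : r ≤ _ := hre'
     have hr0 := hr.two_le
     interval_cases r <;> first
       | (exfalso; omega)
       | (norm_num at hr; done)
       | (exfalso; norm_num at hre; done)
       | (exfalso; norm_num at h2; done)
       | (exfalso; norm_num at hV; have := hup _ _ hge hel; norm_num at this; omega))

end CfsgLib.DlStab.Sizes
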