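import Cfsg.Agent.Lib.DlStab.Imprimitive
import Cfsg.Agent.Lib.DlStab.Fixed
import Cfsg.Agent.Lib.DlStab.Orbits
import Cfsg.Agent.Lib.DlStab.Sizes
import Cfsg.Agent.Lib.OddBase.Arith

/-!
The invariant for quasi-primitive actions.
-/

set_option autoImplicit false
set_option linter.style.haveILetI false

open Subgroup
open scoped commutatorElement

namespace CfsgLib.DlStab

open CfsgLib.OddBase

universe u

variable {A : Type u} [Group A] [Finite A] {V : Type u} [AddCommGroup V] [Finite V] [Nontrivial V]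
  {ρ : A →* AddMonoid.End V} {U E : Subgroup A}

/-- In a transitive action the fixed spaces of the movers cover. -/
theorem card_le_of_cover (h : Quasi ρ U) (hL : Layer U E) {e r : ℕ} (he : U.relIndex E = e ^ 2)
    (he2 : 2 ≤ e) (hr : r.Prime) {g : A} (hg : g ∈ E) (hgU : g ∉ U) (hgr : g ^ r = 1) {v : V}
    (hv : v ≠ 0) (hgv : ρ g v = v) (ht : ∀ x y : V, x ≠ 0 → y ≠ 0 → SameOrbit ρ x y) :
    Nat.card V ≤ ((e ^ 2 - 1) * r) ^ 2 := by
  classical
  haveI := h.normal
  haveI := hL.normal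
  haveI := hL.normal_quot
  haveI := h.isCyclic
  cases nonempty_fintype A
  cases nonempty_fintype V
  let G : Finset A := Finset.univ.filter fun b => b ∈ E ∧ b ∉ U ∧ b ^ r = 1
  -- few movers
  have hG : G.card ≤ (e ^ 2 - 1) * r := by
    haveI := Fintype.ofFinite (E ⧸ U.subgroupOf E)
    let f : A → E ⧸ U.subgroupOf E := fun b => if hb : b ∈ E then ((⟨b, hb⟩ : E) : _) else 1
    have himg : (G.image f) ⊆ Finset.univ.erase 1 := by
      intro c hc
      obtain ⟨b, hb, rfl⟩ := Finset.mem_image.1 hc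
      obtain ⟨-, hbE, hbU, -⟩ := Finset.mem_filter.1 hb
      refine Finset.mem_erase.2 ⟨fun e1 => hbU ?_, Finset.mem_univ _⟩
      simp only [f, dif_pos hbE] at e1
      exact (QuotientGroup.eq_one_iff (⟨b, hbE⟩ : E)).1 e1
    have hfib : ∀ c ∈ G.image f, (G.filter fun b => f b = c).card ≤ r := by
      intro c hc
      obtain ⟨b₀, hb₀, rfl⟩ := Finset.mem_image.1 hc
      obtain ⟨-, hbE, -, hbr⟩ := Finset.mem_filter.1 hb₀
      haveI := Fintype.ofFinite U
      refine le_trans ?_ (IsCyclic.card_pow_eq_one_le (α := U) (n := r) hr.pos)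
      let back : A → U := fun b => if hb : b₀⁻¹ * b ∈ U then ⟨_, hb⟩ else 1
      have hmem : ∀ b ∈ G.filter fun b => f b = f b₀, b₀⁻¹ * b ∈ U ∧ (b₀⁻¹ * b) ^ r = 1 := by
        intro b hb
        obtain ⟨hbG, hfb⟩ := Finset.mem_filter.1 hb
        obtain ⟨-, hbE', -, hbr'⟩ := Finset.mem_filter.1 hbG
        simp only [f, dif_pos hbE, dif_pos hbE'] at hfb
        have hu : b₀⁻¹ * b ∈ U := (QuotientGroup.eq (a := (⟨b₀, hbE⟩ : E)) (b := ⟨b, hbE'⟩)).1 hfb.symm
        refine ⟨hu, ?_⟩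
        have hc : Commute b₀ (b₀⁻¹ * b) := (hL.commute hu hbE).symm
        have := hc.mul_pow r
        rw [mul_inv_cancel_left, hbr', hbr, one_mul] at this
        exact this.symm
      refine Finset.card_le_card_of_injOn back (fun b hb => ?_) fun b hb b' hb' e1 => ?_
      · obtain ⟨h1, h2⟩ := hmem b hb
        simp only [back, dif_pos h1, Finset.coe_filter, Set.mem_ofPred_eq, Finset.mem_univ, true_and]
        exact Subtype.ext h2
      · simp only [back, dif_pos (hmem b hb).1, dif_pos (hmem b' hb').1, Subtype.mk.injEq,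
          mul_right_inj] at e1
        exact e1
    calc G.card ≤ r * (G.image f).card :=
          Finset.card_le_mul_card_image G r hfib
      _ ≤ r * (Finset.univ.erase (1 : E ⧸ U.subgroupOf E)).card :=
          Nat.mul_le_mul_left _ (Finset.card_le_card himg)
      _ = (e ^ 2 - 1) * r := by
          rw [Finset.card_erase_of_mem (Finset.mem_univ _), Finset.card_univ,
            ← Nat.card_eq_fintype_card, show Nat.card (E ⧸ U.subgroupOf E) = e ^ 2 from he, mul_comm]
  -- they cover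
  have hcov : Finset.univ.erase (0 : V) ⊆
      G.biUnion fun b => (Finset.univ.filter fun w => ρ b w = w).erase 0 := by
    intro w hw
    have hw0 := Finset.ne_of_mem_erase hw
    obtain ⟨a, ha⟩ := ht v w hv hw0
    refine Finset.mem_biUnion.2 ⟨a * g * a⁻¹, Finset.mem_filter.2 ⟨Finset.mem_univ _,
      hL.normal.conj_mem g hg a, fun e1 => hgU ?_, by rw [conj_pow, hgr, mul_one, mul_inv_cancel]⟩,
      Finset.mem_erase.2 ⟨hw0, Finset.mem_filter.2 ⟨Finset.mem_univ _, ?_⟩⟩⟩
    · have := h.normal.conj_mem _ e1 a⁻¹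
      simpa [mul_assoc] using this
    · rw [← ha, apply_mul, apply_mul, apply_inv_apply, hgv]
  have hfs : ∀ b ∈ G, fs ρ b ^ 2 ≤ Nat.card V := by
    intro b hb
    obtain ⟨-, hbE, hbU, -⟩ := Finset.mem_filter.1 hb
    obtain ⟨y, hy, hne⟩ := hL.exists_comm_ne_one hbE hbU
    exact h.fs_sq_le_card (x := y) (hL.comm b hbE y hy) hne
  obtain ⟨b₀, hb₀, hmax⟩ := G.exists_max_image (fs ρ) ⟨g, Finset.mem_filter.2
    ⟨Finset.mem_univ _, hg, hgU, hgr⟩⟩
  have h1 := le_trans (Finset.card_le_card hcov) Finset.card_biUnion_le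
  rw [Finset.card_erase_of_mem (Finset.mem_univ _), Finset.card_univ,
    ← Nat.card_eq_fintype_card] at h1
  have h2 : ∀ b ∈ G, ((Finset.univ.filter fun w => ρ b w = w).erase 0).card ≤ fs ρ b₀ - 1 := by
    intro b hb
    rw [Finset.card_erase_of_mem (show (0 : V) ∈ Finset.univ.filter (fun w => ρ b w = w) from
      Finset.mem_filter.2 ⟨Finset.mem_univ _, map_zero _⟩)]
    have hfs' : (Finset.univ.filter fun w => ρ b w = w).card = fs ρ b := by
      rw [fs, ← Fintype.card_coe, ← Nat.card_eq_fintype_card]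
      exact Nat.card_congr (Equiv.subtypeEquivRight fun v => by simp [mem_fixed])
    rw [hfs']
    exact Nat.sub_le_sub_right (hmax b hb) 1
  have h3 := le_trans h1 (Finset.sum_le_card_nsmul _ _ _ h2)
  rw [smul_eq_mul] at h3
  set N := (e ^ 2 - 1) * r with hN
  have h4 : Nat.card V - 1 ≤ N * (fs ρ b₀ - 1) := h3.trans (Nat.mul_le_mul_right _ hG)
  have hN1 : 1 ≤ N := by
    have : 4 ≤ e ^ 2 := by nlinarith
    have := hr.one_le
    rw [hN]; exact Nat.one_le_iff_ne_zero.2 (Nat.mul_ne_zero (by omega) (by omega))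
  have hm : 1 ≤ fs ρ b₀ := Nat.card_pos
  have hVm : Nat.card V ≤ N * fs ρ b₀ := by
    have hNm : N ≤ N * fs ρ b₀ := Nat.le_mul_of_pos_right N hm
    rw [Nat.mul_sub, mul_one] at h4
    omega
  have h5 : Nat.card V * Nat.card V ≤ N ^ 2 * Nat.card V := by
    calc Nat.card V * Nat.card V ≤ (N * fs ρ b₀) * (N * fs ρ b₀) := Nat.mul_le_mul hVm hVm
      _ = N ^ 2 * fs ρ b₀ ^ 2 := by ring
      _ ≤ N ^ 2 * Nat.card V := Nat.mul_le_mul_left _ (hfs b₀ hb₀)
  exact Nat.le_of_mul_le_mul_right h5 Nat.card_pos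

/-- Beyond the two smallest layers the action is not transitive. -/
theorem not_transitive [Group.IsSolvable A] (h : Quasi ρ U) (hL : Layer U E) [U.Normal] [E.Normal]
    [(U.subgroupOf E).Normal] [IsCyclic U] {e l : ℕ} (he : U.relIndex E = e ^ 2) (he3 : 3 ≤ e)
    (he4 : e ≠ 4) (hel : e ≤ l) (hVl : Nat.card V = Nat.card (scalarRing ρ U) ^ l)
    (hrU : ∀ r : ℕ, r.Prime → r ∣ e → r ∣ Nat.card U) :
    ∃ x y : V, x ≠ 0 ∧ y ≠ 0 ∧ ¬ SameOrbit ρ x y := by
  classical
  by_contra hcon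
  push Not at hcon
  have ht : ∀ x y : V, x ≠ 0 → y ≠ 0 → SameOrbit ρ x y := hcon
  obtain ⟨hq, -, hq2, hdv⟩ := prime_data h (by omega) hrU
  set q := Nat.card (scalarRing ρ U) with hqdef
  -- a suitable prime
  obtain ⟨r, hr, hre, h4, h2⟩ : ∃ r, r.Prime ∧ r ∣ e ∧ (r = 2 → 4 ∣ e) ∧
      (r = 2 → ¬ (3 ∣ e ∨ 5 ∣ e ∨ 7 ∣ e ∨ 11 ∣ e ∨ 13 ∣ e)) := by
    by_cases hex : ∃ r, r.Prime ∧ r ∣ e ∧ r ≠ 2
    · obtain ⟨r, h1, h2, h3⟩ := hex
      exact ⟨r, h1, h2, fun e1 => absurd e1 h3, fun e1 => absurd e1 h3⟩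
    push Not at hex
    obtain ⟨k, hk⟩ : ∃ k, e = 2 ^ k := by
      exact ⟨e.primeFactorsList.length, Nat.eq_prime_pow_of_unique_prime_dvd (by omega)
        (fun {d} hd hde => hex d hd hde)⟩
    have hk2 : 2 ≤ k := by
      by_contra hk'
      interval_cases k <;> omega
    refine ⟨2, Nat.prime_two, hk ▸ dvd_pow_self 2 (by omega), fun _ => ?_, fun _ => ?_⟩
    · rw [hk, show (4 : ℕ) = 2 ^ 2 by norm_num]; exact pow_dvd_pow 2 hk2
    · rintro (h3 | h3 | h3 | h3 | h3) <;>
        exact absurd (hex _ (by norm_num) h3) (by norm_num)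
  obtain ⟨g, hg, hgU, hgr, v, hv, hgv⟩ := exists_mover h hL he hr hre h4
  have hV := card_le_of_cover h hL he (by omega) hr hg hgU hgr hv hgv ht
  have hq6 : q ≠ 6 := by
    refine Arith.six q ?_
    letI := h.isField.toField
    haveI : Finite (AddMonoid.End V) := Finite.of_injective _ DFunLike.coe_injective
    haveI := Fintype.ofFinite (scalarRing ρ U)
    rw [hqdef, Nat.card_eq_fintype_card]
    exact Fintype.isPrimePow_card_of_field
  have hres := Sizes.residual hr hre he3 he4 hel hq hq6 (hdv r hr hre) hq2 h2 (hVl ▸ hV)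
  -- a prime dividing the orbit but not the group
  have hdvd := dvd_card_of_transitive ht
  rw [← (centralizer (U : Set A)).index_mul_card, card_centralizer hL he, hVl] at hdvd
  have hidx := h.index_centralizer_le hq
  have hidx0 : (centralizer (U : Set A)).index ≠ 0 := FiniteIndex.index_ne_zero
  have hUq := h.card_lt
  letI : CommGroup (E ⧸ U.subgroupOf E) :=
    { (inferInstance : Group (E ⧸ U.subgroupOf E)) with mul_comm := hL.quot_comm }
  have hS : ∀ (r k : ℕ), r.Prime → e ^ 2 = r ^ k →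
      Nat.card ((centralizer (U : Set A)).map hL.act) ∣ ∏ i : Fin k, (r ^ k - r ^ (i : ℕ)) := by
    intro r k hr hk
    haveI : Fact r.Prime := ⟨hr⟩
    have hW : Nat.card (E ⧸ U.subgroupOf E) = r ^ k := he.trans hk
    exact card_dvd_aut hW (pow_eq_one_of_CR hW hL.act (act_cr h hL))
      ((centralizer (U : Set A)).map hL.act).subtype Subtype.val_injective
  have key : ∀ ℓ : ℕ, ℓ.Prime → ℓ ∣ q ^ l - 1 → q ≤ ℓ → ¬ ℓ ∣ e ^ 2 →
      ∀ (r k : ℕ), r.Prime → e ^ 2 = r ^ k → ¬ ℓ ∣ ∏ i : Fin k, (r ^ k - r ^ (i : ℕ)) → False := by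
    intro ℓ hℓ hℓV hℓq hℓe r k hr hk hℓS
    rcases hℓ.dvd_mul.1 (hℓV.trans hdvd) with h1 | h1
    · have := Nat.le_of_dvd (Nat.pos_of_ne_zero hidx0) h1
      omega
    rcases hℓ.dvd_mul.1 h1 with h2 | h2
    · rcases hℓ.dvd_mul.1 h2 with h3 | h3
      · have := Nat.le_of_dvd Nat.card_pos h3
        omega
      · exact hℓe h3
    · exact hℓS (h2.trans (hS r k hr hk))
  rcases hres with ⟨he', hq', hl'⟩ | ⟨he', hq', hl'⟩ | ⟨he', hq', hl'⟩ | ⟨he', hq', hl'⟩
  · exact key 7 (by norm_num) (by rw [hq', hl']; norm_num) (by omega) (by rw [he']; norm_num)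
      3 2 Nat.prime_three (by rw [he']) (by decide)
  · exact key 17 (by norm_num) (by rw [hq', hl']; norm_num) (by omega) (by rw [he']; norm_num)
      3 2 Nat.prime_three (by rw [he']) (by decide)
  · exact key 19 (by norm_num) (by rw [hq', hl']; norm_num) (by omega) (by rw [he']; norm_num)
      3 2 Nat.prime_three (by rw [he']) (by decide)
  · exact key 41 (by norm_num) (by rw [hq', hl']; norm_num) (by omega) (by rw [he']; norm_num)
      2 6 Nat.prime_two (by rw [he']; norm_num) (by decide)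

/-- The invariant in the quasi-primitive case. -/
theorem outcome_of_quasi [Group.IsSolvable A] (h : Quasi ρ U) : Outcome ρ := by
  haveI := h.normal
  have hker := ker_eq_bot h
  by_cases hCU : centralizer (U : Set A) ≤ U
  · refine Or.inr ⟨2, by norm_num, ?_, Or.inl (by norm_num)⟩
    rw [ser_two_of_centralizer_le h hCU]
    exact bot_le
  obtain ⟨E, e, l, hL, he, he2, hel, hVl, hrU⟩ := exists_layer_data h hCU
  haveI := hL.normal
  haveI := hL.normal_quot
  haveI := h.isCyclic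
  obtain ⟨hq, -, -, -⟩ := prime_data h he2 hrU
  have hA := card_le h hL he hq
  have hqe : Nat.card (scalarRing ρ U) ^ e ≤ Nat.card V :=
    hVl ▸ Nat.pow_le_pow_right (by omega) hel
  by_cases h182 : 182 ≤ e
  · left
    have hbig : (6 * Nat.card A) ^ 4 ≤ Nat.card V :=
      le_trans (Nat.pow_le_pow_left (Nat.mul_le_mul_left 6 hA) 4)
        ((Sizes.huge hq h182).trans hqe)
    refine manyGood_regular 9 ((Nat.le_self_pow (by norm_num) _).trans hbig) fun g hg => ?_
    rw [← Nat.pow_le_pow_iff_left (show (4 : ℕ) ≠ 0 by norm_num), mul_pow]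
    calc (6 * Nat.card A) ^ 4 * fs ρ g ^ 4 ≤ Nat.card V * Nat.card V ^ 3 :=
          Nat.mul_le_mul hbig (fs_pow_four_le h hL hg)
      _ = _ := by ring
  have hsq : e ^ 2 < 32768 := by
    have := Nat.pow_le_pow_left (show e ≤ 181 by omega) 2
    norm_num at this
    omega
  have hd := layer_table h hL he (tableBelow 32768 le_rfl) hsq
  have hstab : ∀ v : V, v ≠ 0 → Good ρ (max (dlBound (e ^ 2)) 1 + 1) v := fun v hv => by
    rw [Good, ser_stab_eq_bot h hL hd hv]
    exact bot_le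
  by_cases h64 : 64 ≤ e
  · left
    refine manyGood_nonzero (fun v hv => (hstab v hv).mono ?_) ?_
    · have := dlBound_le (e ^ 2)
      omega
    · have := Sizes.middle hq h64 (by omega)
      have := Nat.mul_le_mul_left 4 hA
      omega
  right
  have h6 : dlBound (e ^ 2) ≤ 6 := dlBound_le_six (by
    have := Nat.pow_le_pow_left (show e ≤ 63 by omega) 2
    norm_num at this
    omega)
  have htop : ser (⊤ : Subgroup A) (max (dlBound (e ^ 2)) 1 + 2) ≤ ker ρ := by
    rw [ser_top_eq_bot h hL hd]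
    exact bot_le
  refine ⟨_, by omega, htop, ?_⟩
  by_cases hsmall : e = 2 ∨ e = 4
  · left
    rcases hsmall with rfl | rfl <;> decide
  right
  obtain ⟨x, y, hx, hy, hxy⟩ := not_transitive h hL he (by omega) (by omega) hel hVl hrU
  exact ⟨x, y, hx, hy, hxy, fun v hv => (hstab v hv).mono (by omega)⟩

end CfsgLib.DlStab
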