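import Cfsg.Agent.Lib.DlStab.Basic
import Cfsg.Agent.Lib.OddBase.Count

/-!
Derived series through the scalar field and the layer of a quasi-primitive action.
-/

set_option autoImplicit false
set_option linter.style.haveILetI false

open Subgroup
open scoped commutatorElement

namespace CfsgLib.DlStab

open CfsgLib.OddBase

universe u

variable {A : Type u} [Group A] [Finite A] {V : Type u} [AddCommGroup V] [Finite V] [Nontrivial V]
  {ρ : A →* AddMonoid.End V} {U E : Subgroup A}

theorem ker_eq_bot (h : Quasi ρ U) : ker ρ = ⊥ := by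
  rw [eq_bot_iff]
  intro a ha
  rw [mem_ker] at ha
  exact mem_bot.2 (h.inj (ha.trans (map_one ρ).symm))

/-- The scalars in the group divide the multiplicative group of the field. -/
theorem card_dvd_sub_one (h : Quasi ρ U) : Nat.card U ∣ Nat.card (scalarRing ρ U) - 1 := by
  letI := h.isField.toField
  haveI : Finite (AddMonoid.End V) := Finite.of_injective _ DFunLike.coe_injective
  let g : U →* scalarRing ρ U :=
    { toFun := fun x => ⟨ρ x, apply_mem_scalarRing ρ x.2⟩
      map_one' := Subtype.ext (map_one ρ)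
      map_mul' := fun x y => Subtype.ext (map_mul ρ _ _) }
  have hg : Function.Injective g.toHomUnits := fun x y e => Subtype.ext
    (h.inj (congrArg Subtype.val (congrArg Units.val e)))
  rw [← Nat.card_units]
  exact Subgroup.card_dvd_of_injective g.toHomUnits hg

/-- The group induced on the scalars is abelian. -/
theorem ser_one_le_centralizer (h : Quasi ρ U) :
    ser (⊤ : Subgroup A) 1 ≤ centralizer (U : Set A) := by
  haveI := h.normal
  haveI := h.isCyclic
  refine ser_one_le fun x _ y _ => ?_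
  intro u hu
  let f : A →* MulAut U := MulAut.conjNormal
  have hcomm : ∀ a b : MulAut U, a * b = b * a := fun a b => by
    apply MulEquiv.ext
    intro t
    obtain ⟨i, hi⟩ := MonoidHom.map_cyclic a.toMonoidHom
    obtain ⟨j, hj⟩ := MonoidHom.map_cyclic b.toMonoidHom
    have hi' : ∀ x, a x = x ^ i := hi
    have hj' : ∀ x, b x = x ^ j := hj
    show a (b t) = b (a t)
    rw [hi', hj', hi', hj', ← zpow_mul, ← zpow_mul, mul_comm]
  have h1 : f ⁅x, y⁆ = 1 := by
    rw [map_commutatorElement, commutatorElement_eq_one_iff_mul_comm]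
    exact hcomm _ _
  have h2 : (f ⁅x, y⁆ ⟨u, hu⟩ : A) = u := by rw [h1]; rfl
  rw [MulAut.conjNormal_apply] at h2
  exact eq_mul_inv_iff_mul_eq.1 h2.symm

theorem inf_stab_eq_bot (h : Quasi ρ U) {v : V} (hv : v ≠ 0) : U ⊓ stab ρ v = ⊥ := by
  rw [eq_bot_iff]
  rintro a ⟨haU, ha⟩
  by_contra hne
  exact hv (h.apply_eq_self haU (fun e => hne (mem_bot.2 e)) ha)

/-- The semilinear case. -/
theorem ser_two_of_centralizer_le (h : Quasi ρ U) (hC : centralizer (U : Set A) ≤ U) :
    ser (⊤ : Subgroup A) 2 = ⊥ := by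
  have h1 : ser (⊤ : Subgroup A) 1 ≤ U := (ser_one_le_centralizer h).trans hC
  refine le_bot_iff.1 (ser_le_trans (b := 1) h1 (ser_one_le fun x hx y hy => ?_))
  rw [mem_bot, commutatorElement_eq_one_iff_mul_comm]
  exact h.comm x hx y hy

/-- In the semilinear case stabilisers are abelian. -/
theorem ser_stab_one_of_centralizer_le (h : Quasi ρ U) (hC : centralizer (U : Set A) ≤ U) {v : V}
    (hv : v ≠ 0) : ser (stab ρ v) 1 = ⊥ := by
  refine le_bot_iff.1 ((le_inf ?_ (ser_le_self _ 1)).trans (inf_stab_eq_bot h hv).le)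
  exact ((ser_mono le_top 1).trans (ser_one_le_centralizer h)).trans hC

section layer

variable [U.Normal] [E.Normal] [(U.subgroupOf E).Normal] [IsCyclic U]

/-- Down to the layer. -/
theorem ser_top_le_layer (h : Quasi ρ U) (hL : Layer U E) {d : ℕ}
    (hd : ser (⊤ : Subgroup A) d ≤ hL.act.ker) (hd1 : 1 ≤ d) : ser (⊤ : Subgroup A) d ≤ E :=
  (le_inf (ser_le_of_le (ser_one_le_centralizer h) hd1) hd).trans hL.inf_ker_act.le

/-- The derived length of the group. -/
theorem ser_top_eq_bot (h : Quasi ρ U) (hL : Layer U E) {d : ℕ}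
    (hd : ser (⊤ : Subgroup A) d ≤ hL.act.ker) : ser (⊤ : Subgroup A) (max d 1 + 2) = ⊥ := by
  have h1 := ser_top_le_layer h hL (ser_le_of_le hd (le_max_left d 1)) (le_max_right d 1)
  refine le_bot_iff.1 (ser_le_trans h1 ?_)
  refine ser_le_trans (K := U) (a := 1) (b := 1) (ser_one_le hL.comm) (ser_one_le fun x hx y hy => ?_)
  rw [mem_bot, commutatorElement_eq_one_iff_mul_comm]
  exact h.comm x hx y hy

/-- The derived length of the stabiliser of a nonzero vector. -/
theorem ser_stab_eq_bot (h : Quasi ρ U) (hL : Layer U E) {d : ℕ}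
    (hd : ser (⊤ : Subgroup A) d ≤ hL.act.ker) {v : V} (hv : v ≠ 0) :
    ser (stab ρ v) (max d 1 + 1) = ⊥ := by
  have h1 := (ser_mono (H := stab ρ v) le_top _).trans
    (ser_top_le_layer h hL (ser_le_of_le hd (le_max_left d 1)) (le_max_right d 1))
  refine le_bot_iff.1 ((le_inf ?_ (ser_le_self (stab ρ v) _)).trans (inf_stab_eq_bot h hv).le)
  exact ser_le_trans h1 (ser_one_le hL.comm)

end layer

end CfsgLib.DlStab
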