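import Cfsg.Agent.Lib.DlStab.Top
import Cfsg.Agent.Lib.DlStab.Induced
import Cfsg.Agent.Lib.DlStab.Scalar

/-!
The derived length of soluble completely reducible linear groups on few vectors.
-/

set_option autoImplicit false
set_option linter.style.haveILetI false

open Subgroup
open scoped commutatorElement

namespace CfsgLib.DlStab

open CfsgLib.OddBase

universe u

variable {A : Type u} [Group A] {V : Type u} [AddCommGroup V]

section split

variable {ρ : A →* AddMonoid.End V} {X Y : AddSubgroup V} (hX : Inv ρ X) (hY : Inv ρ Y)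
  (hinf : X ⊓ Y = ⊥) (hsup : X ⊔ Y = ⊤)

include hsup in
theorem ker_inf_le : ker (res ρ X hX) ⊓ ker (res ρ Y hY) ≤ ker ρ := by
  rintro a ⟨h1', h2'⟩
  have h1 := mem_ker.1 h1'
  have h2 := mem_ker.1 h2'
  rw [mem_ker]
  refine AddMonoidHom.ext fun v => ?_
  have hv : v ∈ X ⊔ Y := by rw [hsup]; trivial
  obtain ⟨x, hx, y, hy, rfl⟩ := AddSubgroup.mem_sup.1 hv
  have f1 : ρ a x = x := congrArg Subtype.val (DFunLike.congr_fun h1 (⟨x, hx⟩ : X))
  have f2 : ρ a y = y := congrArg Subtype.val (DFunLike.congr_fun h2 (⟨y, hy⟩ : Y))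
  show ρ a (x + y) = x + y
  rw [map_add, f1, f2]

include hinf hsup in
theorem card_mul_of_split : Nat.card V = Nat.card X * Nat.card Y := by
  rw [← Nat.card_prod]
  refine (Nat.card_congr (Equiv.ofBijective (fun p : X × Y => (p.1 : V) + p.2) ⟨?_, fun v => ?_⟩)).symm
  · rintro ⟨x, y⟩ ⟨x', y'⟩ h
    have hm : (x : V) - x' ∈ X ⊓ Y := ⟨X.sub_mem x.2 x'.2, by
      rw [show (x : V) - x' = (y' : V) - y by
        rw [sub_eq_sub_iff_add_eq_add, add_comm (y' : V)]; exact h]
      exact Y.sub_mem y'.2 y.2⟩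
    rw [hinf, AddSubgroup.mem_bot, sub_eq_zero] at hm
    have hy : (y : V) = y' := by
      have h' : (x : V) + y = x' + y' := h
      rw [hm] at h'
      exact add_left_cancel h'
    exact Prod.ext (Subtype.ext hm) (Subtype.ext hy)
  · have hv : v ∈ X ⊔ Y := by rw [hsup]; trivial
    obtain ⟨x, hx, y, hy, rfl⟩ := AddSubgroup.mem_sup.1 hv
    exact ⟨(⟨x, hx⟩, ⟨y, hy⟩), rfl⟩

include hinf hsup in
theorem good_add {n : ℕ} {x : X} {y : Y} (h1 : Good (res ρ X hX) n x) (h2 : Good (res ρ Y hY) n y) :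
    Good ρ n ((x : V) + y) := by
  refine le_trans (le_inf ?_ ?_) (ker_inf_le hX hY hsup)
  all_goals
    have hsplit : ∀ a ∈ stab ρ ((x : V) + y), ρ a x = x ∧ ρ a y = y := by
      intro a ha
      rw [mem_stab, map_add] at ha
      have hm : ρ a (x : V) - x ∈ X ⊓ Y := ⟨X.sub_mem (hX a _ x.2) x.2, by
        rw [show ρ a (x : V) - x = (y : V) - ρ a y by
          rw [sub_eq_sub_iff_add_eq_add, add_comm (y : V)]; exact ha]
        exact Y.sub_mem y.2 (hY a _ y.2)⟩
      rw [hinf, AddSubgroup.mem_bot, sub_eq_zero] at hm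
      rw [hm] at ha
      exact ⟨hm, add_left_cancel ha⟩
  · exact (ser_mono (K := stab (res ρ X hX) x) (fun a ha => Subtype.ext (hsplit a ha).1) n).trans h1
  · exact (ser_mono (K := stab (res ρ Y hY) y) (fun a ha => Subtype.ext (hsplit a ha).2) n).trans h2

end split

/-- A reducible action splits into two smaller ones. -/
theorem exists_split [Finite V] {ρ : A →* AddMonoid.End V} (hc : CR ρ) (hi : ¬ Irr ρ) :
    ∃ (X Y : AddSubgroup V) (_ : Inv ρ X) (_ : Inv ρ Y), X ⊓ Y = ⊥ ∧ X ⊔ Y = ⊤ ∧
      2 ≤ Nat.card X ∧ 2 ≤ Nat.card Y := by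
  simp only [Irr, not_forall] at hi
  obtain ⟨X, hX, hne⟩ := hi
  rw [not_or] at hne
  obtain ⟨Y, hY, hinf, hsup⟩ := hc X hX
  refine ⟨X, Y, hX, hY, hinf, hsup, ?_, ?_⟩
  · exact (AddSubgroup.one_lt_card_iff_ne_bot X).2 hne.1
  · refine (AddSubgroup.one_lt_card_iff_ne_bot Y).2 fun e => hne.2 ?_
    rw [e, sup_bot_eq] at hsup
    exact hsup

/-- The image of an action. -/
theorem exists_image [Finite A] [Group.IsSolvable A] [Finite V] (ρ : A →* AddMonoid.End V)
    (hirr : Irr ρ) : ∃ (G : Type u) (_ : Group G) (_ : Finite G) (_ : Group.IsSolvable G)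
      (f : A →* G) (σ : G →* AddMonoid.End V), Function.Surjective f ∧ Function.Injective σ ∧
        Irr σ ∧ ρ = σ.comp f :=
  haveI : Finite (AddMonoid.End V) := Finite.of_injective _ DFunLike.coe_injective
  ⟨ρ.toHomUnits.range, inferInstance, inferInstance,
    Group.isSolvable_of_surjective ρ.toHomUnits.rangeRestrict_surjective,
    ρ.toHomUnits.rangeRestrict, (Units.coeHom _).comp ρ.toHomUnits.range.subtype,
    ρ.toHomUnits.rangeRestrict_surjective, fun _ _ e => Subtype.ext (Units.ext e),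
    fun X hX => hirr X fun a v hv => hX ⟨_, a, rfl⟩ v hv, MonoidHom.ext fun _ => rfl⟩

theorem ser_le_ker_of_image {G : Type u} [Group G] {f : A →* G} {σ : G →* AddMonoid.End V}
    {n : ℕ} (h : ser ⊤ n ≤ ker σ) : ser ⊤ n ≤ ker (σ.comp f) := by
  intro a ha
  have h1 : f a ∈ ser ((⊤ : Subgroup A).map f) n := map_ser f ⊤ n ▸ mem_map_of_mem f ha
  have h2 : σ (f a) = 1 := mem_ker.1 (h (ser_mono le_top n h1))
  exact mem_ker.2 h2

/-- A maximal abelian normal subgroup spans a field of scalars, or there are blocks on the cosets of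
a maximal subgroup. -/
theorem quasi_or_blocks [Finite A] [Group.IsSolvable A] [Finite V] [Nontrivial V]
    {ρ : A →* AddMonoid.End V} (hinj : Function.Injective ρ) (hirr : Irr ρ) :
    (∃ U, Quasi ρ U) ∨
      ∃ M : Subgroup A, IsCoatom M ∧ ∃ _ : Fintype (A ⧸ M), Nonempty (Blocks ρ (A ⧸ M)) := by
  classical
  let s : Set (Subgroup A) := {B | B.Normal ∧ ∀ x ∈ B, ∀ y ∈ B, x * y = y * x}
  obtain ⟨U, ⟨hUn, hUab⟩, hUmax⟩ := (Set.toFinite s).exists_maximal
    ⟨⊥, inferInstance, fun x hx y hy => by rw [mem_bot.1 hx, mem_bot.1 hy]⟩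
  haveI := hUn
  rcases injective_or_blocks hirr U hUab with h | ⟨ι, hι, hact, B, i, j, hij⟩
  · exact Or.inl ⟨U, hinj, hUn, hUab, fun B hB hBab hle => hUmax ⟨hB, hBab⟩ hle, h⟩
  · right
    have hne : MulAction.stabilizer A i ≠ ⊤ := fun e => by
      obtain ⟨a, ha⟩ := B.transitive hirr i j
      have : a ∈ MulAction.stabilizer A i := by rw [e]; exact mem_top a
      exact hij ((MulAction.mem_stabilizer_iff.1 this).symm.trans ha)
    obtain ⟨M, hM, hle⟩ := (eq_top_or_exists_le_coatom (MulAction.stabilizer A i)).resolve_left hne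
    exact ⟨M, hM, Fintype.ofFinite _, ⟨@Blocks.coarsen _ _ _ _ _ _ _ _ B _ hirr i M (Fintype.ofFinite _) _ hle⟩⟩

/-- The layer of a quasi-primitive action which is not semilinear. -/
theorem exists_layer_data [Finite A] [Group.IsSolvable A] [Finite V] [Nontrivial V]
    {ρ : A →* AddMonoid.End V} {U : Subgroup A} (h : Quasi ρ U)
    (hCU : ¬ centralizer (U : Set A) ≤ U) :
    ∃ (E : Subgroup A) (e l : ℕ), Layer U E ∧ U.relIndex E = e ^ 2 ∧ 2 ≤ e ∧ e ≤ l ∧
      Nat.card V = Nat.card (scalarRing ρ U) ^ l ∧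
      ∀ r : ℕ, r.Prime → r ∣ e → r ∣ Nat.card U := by
  haveI := h.normal
  obtain ⟨E, hL⟩ := exists_layer h.comm h.max
  haveI := hL.normal
  haveI := hL.normal_quot
  haveI := h.isCyclic
  obtain ⟨l, hVl, hTl⟩ := exists_dim h hL
  obtain ⟨e, he⟩ := hL.exists_sq h.comm
  have hne : U.relIndex E ≠ 1 := fun e1 => hCU (by
    have hEU : E ≤ U := relIndex_eq_one.1 e1
    intro c hc
    exact hL.cent ⟨mem_centralizer_iff.2 fun x hx => mem_centralizer_iff.1 hc x (hEU hx), hc⟩)
  have hpos : U.relIndex E ≠ 0 := FiniteIndex.index_ne_zero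
  refine ⟨E, e, l, hL, he, ?_, ?_, hVl, fun r hr hd =>
    hL.dvd_card hr (he ▸ hd.trans (dvd_pow_self e (by norm_num : 2 ≠ 0)))⟩
  · rcases e with _ | _ | e
    · exact absurd he hpos
    · exact absurd he hne
    · omega
  · by_contra hlt
    have h2 : l * l < e * e := Nat.mul_self_lt_mul_self (not_le.1 hlt)
    rw [he, pow_two] at hTl
    omega

theorem layer_table [Finite A] [Group.IsSolvable A] [Finite V] [Nontrivial V]
    {ρ : A →* AddMonoid.End V} {U E : Subgroup A} (h : Quasi ρ U) (hL : Layer U E) {e N : ℕ}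
    [U.Normal] [E.Normal] [(U.subgroupOf E).Normal] [IsCyclic U]
    (he : U.relIndex E = e ^ 2) (hT : TableBelow.{u} N) (hlt : e ^ 2 < N) :
    ser (⊤ : Subgroup A) (dlBound (e ^ 2)) ≤ hL.act.ker := by
  letI : CommGroup (E ⧸ U.subgroupOf E) :=
    { (inferInstance : Group (E ⧸ U.subgroupOf E)) with mul_comm := hL.quot_comm }
  have hW : Nat.card (Additive (E ⧸ U.subgroupOf E)) = e ^ 2 := by
    rw [Nat.card_congr (Additive.toMul (α := E ⧸ U.subgroupOf E))]; exact he
  have h1 := hT A (Additive (E ⧸ U.subgroupOf E)) (addRep hL.act) (by omega) (act_cr h hL)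
  rw [hW] at h1
  exact fun a ha => MonoidHom.mem_ker.2 ((addRep_eq_one hL.act a).1 (mem_ker.1 (h1 ha)))

theorem sq_lt_pow {q l e : ℕ} (hq : 3 ≤ q) (hel : e ≤ l) : e ^ 2 < q ^ l := by
  refine lt_of_lt_of_le ?_ ((Nat.pow_le_pow_left hq e).trans (Nat.pow_le_pow_right (by omega) hel))
  induction e with
  | zero => norm_num
  | succ e ih =>
    have h1 : e < 3 ^ e := Nat.lt_pow_self (by norm_num)
    have h2 := ih (by omega)
    rw [pow_succ (3 : ℕ)]
    nlinarith

theorem two_le_field [Finite V] [Nontrivial V] {ρ : A →* AddMonoid.End V} {U : Subgroup A}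
    (h : Quasi ρ U) : 2 ≤ Nat.card (scalarRing ρ U) := by
  haveI : Finite (AddMonoid.End V) := Finite.of_injective _ DFunLike.coe_injective
  letI := h.isField.toField
  exact Finite.one_lt_card

/-- Where a prime of the layer sits. -/
theorem prime_data [Finite A] [Finite V] [Nontrivial V] {ρ : A →* AddMonoid.End V} {U : Subgroup A}
    (h : Quasi ρ U) {e : ℕ} (he : 2 ≤ e) (hr : ∀ r : ℕ, r.Prime → r ∣ e → r ∣ Nat.card U) :
    3 ≤ Nat.card (scalarRing ρ U) ∧ (3 ∣ e → 4 ≤ Nat.card (scalarRing ρ U)) ∧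
      (2 ∣ e → Odd (Nat.card (scalarRing ρ U))) ∧
      ∀ r : ℕ, r.Prime → r ∣ e → r ∣ Nat.card (scalarRing ρ U) - 1 := by
  have hd := card_dvd_sub_one h
  have hlt := h.card_lt
  have hdv : ∀ r : ℕ, r.Prime → r ∣ e → r ∣ Nat.card (scalarRing ρ U) - 1 :=
    fun r h1 h2 => (hr r h1 h2).trans hd
  have hle : ∀ r : ℕ, r.Prime → r ∣ e → r < Nat.card (scalarRing ρ U) := fun r h1 h2 =>
    lt_of_le_of_lt (Nat.le_of_dvd Nat.card_pos (hr r h1 h2)) hlt
  refine ⟨?_, fun h3 => hle 3 Nat.prime_three h3, fun h2 => ?_, hdv⟩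
  · obtain ⟨r, h1, h2⟩ := Nat.exists_prime_and_dvd (show e ≠ 1 by omega)
    have := hle r h1 h2
    have := h1.two_le
    omega
  · obtain ⟨c, hc⟩ := hdv 2 Nat.prime_two h2
    have := two_le_field h
    exact ⟨c, by omega⟩

/-- The table. -/
theorem tableBelow : ∀ N, N ≤ 32768 → TableBelow.{u} N := by
  intro N
  induction N with
  | zero => intro _ B _ _ _ X _ _ σ h; omega
  | succ N ih =>
    intro hN B _ _ _ X _ _ σ hX hcr
    have ihT := ih (by omega)
    rcases lt_or_eq_of_le (Nat.le_of_lt_succ hX) with hlt | hXN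
    · exact ihT B X σ hlt hcr
    by_cases hi : Irr σ
    swap
    · obtain ⟨Y, Z, hY, hZ, hinf, hsup, h2Y, h2Z⟩ := exists_split hcr hi
      have hc := card_mul_of_split hinf hsup
      have h1 : Nat.card Y < Nat.card X := by
        rw [hc]; exact lt_mul_of_one_lt_right Nat.card_pos h2Z
      have h2 : Nat.card Z < Nat.card X := by
        rw [hc]; exact lt_mul_of_one_lt_left Nat.card_pos h2Y
      refine le_trans (le_inf ?_ ?_) (ker_inf_le hY hZ hsup)
      · refine ser_le_of_le (ihT B Y (res σ Y hY) (by omega) (hcr.res Y hY)) ?_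
        rw [hc]; exact dlBound_mono Nat.card_pos h2Z
      · refine ser_le_of_le (ihT B Z (res σ Z hZ) (by omega) (hcr.res Z hZ)) ?_
        rw [hc, mul_comm]; exact dlBound_mono Nat.card_pos h2Y
    rcases subsingleton_or_nontrivial X with hX1 | hX1
    · intro a _
      exact mem_ker.2 (AddMonoidHom.ext fun v => Subsingleton.elim _ _)
    obtain ⟨G, _, _, _, f, τ, -, hτ, hirr, rfl⟩ := exists_image σ hi
    refine ser_le_ker_of_image ?_
    have h2X : 2 ≤ Nat.card X := Finite.one_lt_card
    -- at most three vectors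
    by_cases h3X : Nat.card X ≤ 3
    · rcases (show Nat.card X = 2 ∨ Nat.card X = 3 by omega) with h | h <;> rw [h]
      · intro a _
        refine mem_ker.2 (AddMonoidHom.ext fun v => ?_)
        show τ a v = v
        obtain ⟨w, hw⟩ := exists_ne (0 : X)
        have hall : ∀ v : X, v ≠ 0 → v = w := by
          intro v hv
          by_contra hvw
          have : 3 ≤ Nat.card X := by
            refine le_trans (le_of_eq ?_) (Nat.card_le_card_of_injective ![0, w, v] ?_)
            · simp
            · intro i j hij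
              fin_cases i <;> fin_cases j <;>
                first
                  | rfl
                  | exact absurd hij hw.symm
                  | exact absurd hij hw
                  | exact absurd hij hv.symm
                  | exact absurd hij hv
                  | exact absurd hij hvw
                  | exact absurd hij (Ne.symm hvw)
          omega
        rcases eq_or_ne v 0 with rfl | hv
        · exact map_zero _
        · have hne : τ a v ≠ 0 := fun e => hv (apply_injective τ a (e.trans (map_zero _).symm))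
          rw [hall _ hne, hall v hv]
      · refine ser_one_le fun x _ y _ => ?_
        have h1 : τ.toHomUnits ⁅x, y⁆ = 1 := by
          rw [map_commutatorElement, commutatorElement_eq_one_iff_mul_comm]
          exact Units.ext (end_comm_of_prime Nat.prime_three h _ _)
        exact MonoidHom.mem_ker.2 h1
    rcases quasi_or_blocks hτ hirr with ⟨U, hU⟩ | ⟨M, hM, _, ⟨Bl⟩⟩
    · haveI := hU.normal
      by_cases hCU : centralizer (U : Set G) ≤ U
      · refine ser_le_of_le ?_ (two_le_dlBound (n := Nat.card X) (by omega))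
        rw [ser_two_of_centralizer_le hU hCU]
        exact bot_le
      obtain ⟨E, e, l, hL, he, he2, hel, hVl, hr⟩ := exists_layer_data hU hCU
      haveI := hL.normal
      haveI := hL.normal_quot
      haveI := hU.isCyclic
      obtain ⟨hq, hq3, hq2, -⟩ := prime_data hU he2 hr
      have hlt : e ^ 2 < N := by rw [← hXN, hVl]; exact sq_lt_pow hq hel
      have h1 := ser_top_eq_bot hU hL (layer_table hU hL he ihT hlt)
      refine ser_le_of_le (h1.le.trans bot_le) ?_
      rw [hVl]
      exact dlBound_layer he2 hel hq hq3 hq2 (by omega)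
    · have hc := card_eq Bl
      have hm := two_le_card_block Bl
      have hb2 : 2 ≤ M.index := by
        have h0 : M.index ≠ 0 := FiniteIndex.index_ne_zero
        have h1 : M.index ≠ 1 := fun e => hM.1 (Subgroup.index_eq_one.1 e)
        omega
      have hbig : Nat.card (block Bl) < N ∧ M.index < N := by
        rw [← hXN, hc]
        constructor
        · calc Nat.card (block Bl) = Nat.card (block Bl) ^ 1 := (pow_one _).symm
            _ < _ := Nat.pow_lt_pow_right hm (by omega)
        · exact Nat.lt_pow_self hm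
      have htop := ser_top_le_core ihT hM hbig.2
      have hblk := ihT M (block Bl) (blockRep Bl) hbig.1 (blockRep_irr Bl hirr).cr
      have key := ser_top_le Bl htop hblk
      refine ser_le_of_le key ?_
      rw [hc, add_comm]
      exact dlBound_blocks hm hb2 (by rw [← hc]; omega)

end CfsgLib.DlStab
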