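import Cfsg.Agent.Lib.DlStab.Basic
import Cfsg.Agent.Lib.DlStab.Bound
import Cfsg.Agent.Lib.TripleBase.Main

/-!
Primitive soluble permutation groups as affine groups: the linear action on the socle.
-/

set_option autoImplicit false
set_option linter.style.haveILetI false

open Subgroup
open scoped commutatorElement

namespace CfsgLib.DlStab

open CfsgLib.OddBase

universe u

variable {A : Type u} [Group A]

theorem smul_eq_of_mem_core {M : Subgroup A} {a : A} (ha : a ∈ M.normalCore) (x : A ⧸ M) :
    a • x = x := by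
  rw [Subgroup.normalCore_eq_ker, MonoidHom.mem_ker] at ha
  exact Equiv.congr_fun ha x

theorem mem_core_of_smul_eq {M : Subgroup A} {a : A} (ha : ∀ x : A ⧸ M, a • x = x) :
    a ∈ M.normalCore := by
  rw [Subgroup.normalCore_eq_ker, MonoidHom.mem_ker]
  exact Equiv.ext ha

/-- The linear action on the socle of the primitive group on the cosets of `M`. -/
theorem exists_top [Finite A] [Group.IsSolvable A] {M : Subgroup A} (hM : IsCoatom M) :
    ∃ (W : Type u) (_ : AddCommGroup W) (_ : Finite W) (φ : A →* AddMonoid.End W) (e : W ≃ A ⧸ M),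
      Irr φ ∧ Nat.card W = M.index ∧ ser (ker φ) 1 ≤ M.normalCore ∧
        M ⊓ ker φ ≤ M.normalCore ∧ e 0 = ((1 : A) : A ⧸ M) ∧
        ∀ a ∈ M, ∀ w, a • e w = e (φ a w) := by
  classical
  let K := M.normalCore
  let f : A →* A ⧸ K := QuotientGroup.mk' K
  have hf : Function.Surjective f := QuotientGroup.mk'_surjective K
  have hkerf : f.ker = K := QuotientGroup.ker_mk' K
  have hcomap : (M.map f).comap f = M :=
    Subgroup.comap_map_eq_self (by rw [hkerf]; exact M.normalCore_le)
  set M' := M.map f with hM'def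
  have hM' : IsCoatom M' := by
    refine ⟨fun e => hM.1 (hcomap.symm.trans ((congrArg (Subgroup.comap f) e).trans
      (Subgroup.comap_top f))), fun Y hY => ?_⟩
    have h := hM.2 (Y.comap f) (lt_of_le_of_ne (hcomap.ge.trans (comap_mono hY.le))
      fun e => hY.ne ((congrArg (Subgroup.map f) e).trans (map_comap_eq_self_of_surjective hf Y)))
    rw [← map_comap_eq_self_of_surjective hf Y, h, map_top_of_surjective f hf]
  have hcore : M'.normalCore = ⊥ := by
    rw [eq_bot_iff]
    intro y hy
    obtain ⟨g, rfl⟩ := hf y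
    have hle : (M'.normalCore).comap f ≤ M.normalCore :=
      Subgroup.normal_le_normalCore.2 (le_trans (comap_mono (normalCore_le _)) hcomap.le)
    rw [mem_bot, ← MonoidHom.mem_ker, hkerf]
    exact hle hy
  haveI : Group.IsSolvable (A ⧸ K) := Group.isSolvable_of_surjective hf
  haveI : Nontrivial (A ⧸ K) := by
    by_contra h
    rw [not_nontrivial_iff_subsingleton] at h
    exact hM'.1 (Subsingleton.elim _ _)
  obtain ⟨R, hR⟩ := CfsgLib.MinNormal.exists_isMinNormal (G := A ⧸ K)
  haveI := hR.1
  obtain ⟨r, hr, ⟨hab, -⟩, -, -⟩ := hR.elementaryAbelian_of_solvable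
  have hRM : ¬ R ≤ M' := fun h =>
    hR.2.1 (le_bot_iff.1 (hcore ▸ (Subgroup.normal_le_normalCore.2 h : R ≤ M'.normalCore)))
  have hcompl := hR.isComplement'_of_isCoatom hab hM' hRM
  have hidx : M.index = Nat.card R := by
    have h1 := congrArg Subgroup.index hcomap
    rw [Subgroup.index_comap_of_surjective _ hf] at h1
    exact h1.symm.trans hcompl.index_eq_card
  letI : CommGroup R := { (inferInstance : Group R) with mul_comm := fun a b => hab.is_comm.comm a b }
  let ψ : A →* MulAut R := (MulAut.conjNormal).comp f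
  have hψval : ∀ (a : A) (x : R), ((ψ a x : R) : A ⧸ K) = f a * x * (f a)⁻¹ := fun a x =>
    MulAut.conjNormal_apply _ _
  let φ : A →* AddMonoid.End (Additive R) := addRep ψ
  -- the kernel of the action lies over the centraliser, which is the socle
  have hcent : ∀ a, a ∈ ker φ → f a ∈ centralizer (R : Set (A ⧸ K)) := by
    intro a ha
    rw [mem_ker, addRep_eq_one] at ha
    intro x hx
    have h1 := hψval a ⟨x, hx⟩
    rw [ha] at h1
    exact eq_mul_inv_iff_mul_eq.1 (show x = _ from h1)
  have hCM : centralizer (R : Set (A ⧸ K)) ⊓ M' = ⊥ :=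
    CoreFreeMaximal.centralizer_inf_eq_bot hM' hcore hR.2.1
  have hCR : centralizer (R : Set (A ⧸ K)) ≤ R := by
    intro c hc
    have hmem : c ∈ R ⊔ M' := by rw [hcompl.sup_eq_top]; exact mem_top c
    obtain ⟨x, hx, m, hm, rfl⟩ := mem_sup_of_normal_left.1 hmem
    have hxc : x ∈ centralizer (R : Set (A ⧸ K)) := fun y hy =>
      congrArg Subtype.val (mul_comm (⟨y, hy⟩ : R) ⟨x, hx⟩)
    have hmc : m ∈ centralizer (R : Set (A ⧸ K)) :=
      (Subgroup.mul_mem_cancel_left _ hxc).1 hc
    have : m ∈ (⊥ : Subgroup (A ⧸ K)) := hCM ▸ ⟨hmc, hm⟩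
    rw [mem_bot.1 this, mul_one]
    exact hx
  -- points
  let pt : R → (A ⧸ K) ⧸ M' := fun x => ((x : A ⧸ K) : (A ⧸ K) ⧸ M')
  let π : A ⧸ M → (A ⧸ K) ⧸ M' := Quotient.map' f fun a b h => by
    rw [QuotientGroup.leftRel_apply] at h ⊢
    exact ⟨_, h, by rw [map_mul, map_inv]⟩
  have hπ : ∀ (a : A) (x : A ⧸ M), π (a • x) = f a • π x := by
    intro a x
    induction x using QuotientGroup.induction_on with
    | _ g =>
      show ((f (a * g) : A ⧸ K) : (A ⧸ K) ⧸ M') = ((f a * f g : A ⧸ K) : _)
      rw [map_mul]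
  have hπb : Function.Bijective π := by
    refine ⟨fun x y hxy => ?_, fun y => ?_⟩
    · induction x using QuotientGroup.induction_on with
      | _ g =>
        induction y using QuotientGroup.induction_on with
        | _ g' =>
          rw [QuotientGroup.eq]
          have h1 : (f g)⁻¹ * f g' ∈ M' := QuotientGroup.eq.1 hxy
          rw [← map_inv, ← map_mul] at h1
          exact hcomap.le h1
    · induction y using QuotientGroup.induction_on with
      | _ z =>
        obtain ⟨g, rfl⟩ := hf z
        exact ⟨(g : A ⧸ M), rfl⟩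
  have hpt : Function.Bijective pt := by
    have hinj : Function.Injective pt := by
      intro x y h
      have hm : (x : A ⧸ K)⁻¹ * y ∈ M' := QuotientGroup.eq.1 h
      have : (x : A ⧸ K)⁻¹ * y ∈ (⊥ : Subgroup (A ⧸ K)) :=
        hcompl.disjoint.le_bot ⟨R.mul_mem (R.inv_mem x.2) y.2, hm⟩
      exact Subtype.ext (inv_mul_eq_one.1 (mem_bot.1 this))
    exact (Nat.bijective_iff_injective_and_card pt).2 ⟨hinj, by rw [← hcompl.index_eq_card]; rfl⟩
  let e : Additive R ≃ A ⧸ M :=
    Additive.toMul.trans ((Equiv.ofBijective pt hpt).trans (Equiv.ofBijective π hπb).symm)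
  have he : ∀ w, π (e w) = pt (Additive.toMul w) := fun w =>
    (Equiv.ofBijective π hπb).apply_symm_apply _
  refine ⟨Additive R, inferInstance, inferInstance, φ, e, ?_, ?_, ?_, ?_, ?_, ?_⟩
  · -- irreducible
    intro X hX
    let N : Subgroup (A ⧸ K) := (AddSubgroup.toSubgroup' X).map R.subtype
    have hN : N.Normal := ⟨by
      rintro _ ⟨x, hx, rfl⟩ g
      obtain ⟨a, rfl⟩ := hf g
      refine ⟨ψ a x, ?_, hψval a x⟩
      exact hX a _ hx⟩
    rcases eq_or_ne N ⊥ with h | h
    · left
      rw [eq_bot_iff]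
      intro x hx
      have hm : ((Additive.toMul x : R) : A ⧸ K) ∈ N := ⟨_, hx, rfl⟩
      rw [h, mem_bot] at hm
      exact AddSubgroup.mem_bot.2 (congrArg Additive.ofMul (Subtype.ext hm))
    · right
      have hNR : N = R := (hR.2.2 N hN (by rintro _ ⟨x, -, rfl⟩; exact x.2)).resolve_left h
      rw [eq_top_iff]
      intro x _
      have hm : ((Additive.toMul x : R) : A ⧸ K) ∈ N := hNR.ge (Additive.toMul x).2
      obtain ⟨y, hy, hyx⟩ := hm
      rw [(Subtype.ext hyx : y = Additive.toMul x)] at hy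
      exact hy
  · rw [hidx]
    exact Nat.card_congr Additive.toMul
  · refine ser_one_le fun x hx y hy => ?_
    refine hkerf.le ?_
    rw [MonoidHom.mem_ker, map_commutatorElement, commutatorElement_eq_one_iff_mul_comm]
    exact congrArg Subtype.val (mul_comm (⟨f x, hCR (hcent x hx)⟩ : R) ⟨f y, hCR (hcent y hy)⟩)
  · rintro a ⟨haM, hak⟩
    have : f a ∈ (⊥ : Subgroup (A ⧸ K)) := hCM ▸ ⟨hcent a hak, mem_map_of_mem f haM⟩
    rwa [mem_bot, ← MonoidHom.mem_ker, hkerf] at this
  · apply hπb.1
    rw [he]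
    show ((1 : A ⧸ K) : (A ⧸ K) ⧸ M') = ((f 1 : A ⧸ K) : (A ⧸ K) ⧸ M')
    rw [map_one]
  · intro a ha w
    apply hπb.1
    rw [hπ, he, he]
    show ((f a * (Additive.toMul w : R) : A ⧸ K) : (A ⧸ K) ⧸ M') =
      ((ψ a (Additive.toMul w) : A ⧸ K) : (A ⧸ K) ⧸ M')
    rw [hψval, QuotientGroup.eq]
    convert M'.inv_mem (mem_map_of_mem f ha) using 1
    group

/-- Every completely reducible soluble action on fewer than `N` vectors obeys the bound. -/
def TableBelow (N : ℕ) : Prop :=
  ∀ (B : Type u) [Group B] [Finite B] [Group.IsSolvable B] (X : Type u) [AddCommGroup X] [Finite X]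
    (σ : B →* AddMonoid.End X), Nat.card X < N → CR σ → ser ⊤ (dlBound (Nat.card X)) ≤ ker σ

variable [Finite A] [Group.IsSolvable A] {M : Subgroup A}

/-- The derived length of a primitive group. -/
theorem ser_top_le_core {N : ℕ} (hT : TableBelow.{u} N) (hM : IsCoatom M) (hlt : M.index < N) :
    ser ⊤ (1 + dlBound M.index) ≤ M.normalCore := by
  obtain ⟨W, _, _, φ, e, hirr, hW, hk1, -, -, -⟩ := exists_top hM
  have h := hT A W φ (by omega) hirr.cr
  rw [hW] at h
  rw [add_comm]
  exact ser_le_trans h hk1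

/-- The derived length of a point stabiliser of a primitive group. -/
theorem ser_self_le_core {N : ℕ} (hT : TableBelow.{u} N) (hM : IsCoatom M) (hlt : M.index < N) :
    ser M (dlBound M.index) ≤ M.normalCore := by
  obtain ⟨W, _, _, φ, e, hirr, hW, -, hk2, -, -⟩ := exists_top hM
  have h := hT A W φ (by omega) hirr.cr
  rw [hW] at h
  exact le_trans (le_inf (ser_le_self M _) ((ser_mono le_top _).trans h)) hk2

/-- Endomorphisms of a group of prime order commute. -/
theorem end_comm_of_prime {W : Type u} [AddCommGroup W] {p : ℕ} (hp : p.Prime)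
    (hW : Nat.card W = p) (x y : AddMonoid.End W) : x * y = y * x := by
  haveI := Fact.mk hp
  haveI : IsAddCyclic W := isAddCyclic_of_prime_card hW
  obtain ⟨g, hg⟩ := IsAddCyclic.exists_generator (α := W)
  obtain ⟨i, hi⟩ := hg (x g)
  obtain ⟨j, hj⟩ := hg (y g)
  refine AddMonoidHom.ext fun w => ?_
  obtain ⟨k, rfl⟩ := hg w
  simp only at hi hj
  show x (y (k • g)) = y (x (k • g))
  rw [map_zsmul, map_zsmul, map_zsmul, map_zsmul, ← hi, ← hj, map_zsmul, map_zsmul, ← hi, ← hj,
    smul_comm i j]

/-- A point stabiliser of a primitive group of prime degree is abelian. -/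
theorem ser_self_one_le_core (hM : IsCoatom M) (hp : M.index.Prime) : ser M 1 ≤ M.normalCore := by
  obtain ⟨W, _, _, φ, e, hirr, hW, -, hk2, -, -⟩ := exists_top hM
  refine le_trans (le_inf (ser_le_self M 1) (ser_one_le fun x _ y _ => ?_)) hk2
  have h1 : φ.toHomUnits ⁅x, y⁆ = 1 := by
    rw [map_commutatorElement, commutatorElement_eq_one_iff_mul_comm]
    exact Units.ext (end_comm_of_prime hp hW _ _)
  exact MonoidHom.mem_ker.2 h1

/-- Few points with trivial stabiliser modulo the core. -/
theorem exists_base (hM : IsCoatom M) :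
    ∃ s : Finset (A ⧸ M), s.card ≤ 4 ∧ (M.index = 9 → s.card ≤ 3) ∧
      ∀ a : A, (∀ x ∈ s, a • x = x) → a ∈ M.normalCore := by
  classical
  obtain ⟨W, _, _, φ, e, hirr, hW, -, hk2, he0, hequiv⟩ := exists_top hM
  have hfix : ∀ (v : W) (a : A), a • e 0 = e 0 → a • e v = e v → a ∈ M ∧ φ a v = v := by
    intro v a h0 hv
    have haM : a ∈ M := by
      rw [he0, MulAction.Quotient.smul_coe, QuotientGroup.eq, smul_eq_mul, mul_one, mul_one] at h0
      exact inv_mem_iff.1 h0
    rw [hequiv a haM] at hv
    exact ⟨haM, e.injective hv⟩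
  by_cases h9 : M.index = 9
  · obtain ⟨x, hx⟩ : ∃ x : W, x ≠ 0 := by
      haveI : Nontrivial W := Finite.one_lt_card_iff_nontrivial.1 (by omega)
      exact exists_ne 0
    obtain ⟨y, hy⟩ : ∃ y : W, y ∉ AddSubgroup.zmultiples x := by
      by_contra h
      push Not at h
      have htop : AddSubgroup.zmultiples x = ⊤ := eq_top_iff.2 fun v _ => h v
      have hx9 : addOrderOf x = 9 := by
        rw [← Nat.card_zmultiples, htop, AddSubgroup.card_top, hW, h9]
      -- the elements killed by three form an invariant subgroup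
      let T : AddSubgroup W := (nsmulAddMonoidHom 3 : W →+ W).ker
      have hT : Inv φ T := fun a v hv => by
        simp only [T, AddMonoidHom.mem_ker, nsmulAddMonoidHom_apply] at hv ⊢
        rw [← map_nsmul, hv, map_zero]
      rcases hirr T hT with hT' | hT'
      · have hm : (3 : ℕ) • x ∈ T := by
          simp only [T, AddMonoidHom.mem_ker, nsmulAddMonoidHom_apply]
          rw [← mul_nsmul, show 3 * 3 = addOrderOf x by omega]
          exact addOrderOf_nsmul_eq_zero x
        rw [hT', AddSubgroup.mem_bot] at hm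
        have := addOrderOf_dvd_iff_nsmul_eq_zero.2 hm
        rw [hx9] at this
        norm_num at this
      · have hm : x ∈ T := by rw [hT']; trivial
        simp only [T, AddMonoidHom.mem_ker, nsmulAddMonoidHom_apply] at hm
        have := addOrderOf_dvd_iff_nsmul_eq_zero.2 hm
        rw [hx9] at this
        norm_num at this
    refine ⟨{e 0, e x, e y}, Finset.card_le_three.trans (by omega), fun _ => Finset.card_le_three,
      fun a ha => ?_⟩
    have h0 := ha (e 0) (by simp)
    obtain ⟨haM, hax⟩ := hfix x a h0 (ha _ (by simp))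
    obtain ⟨-, hay⟩ := hfix y a h0 (ha _ (by simp))
    let F : AddSubgroup W := fixed φ a
    have hFtop : F = ⊤ := by
      apply AddSubgroup.eq_top_of_card_eq
      have hd : Nat.card F ∣ 9 := h9 ▸ hW ▸ F.card_addSubgroup_dvd_card
      have hle : AddSubgroup.zmultiples x < F := by
        refine lt_of_le_of_ne (AddSubgroup.zmultiples_le_of_mem hax) fun e' => hy (e'.ge hay)
      have h2 : 1 < Nat.card (AddSubgroup.zmultiples x) := by
        rw [AddSubgroup.one_lt_card_iff_ne_bot]
        exact AddSubgroup.zmultiples_ne_bot.2 hx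
      have h3 : Nat.card (AddSubgroup.zmultiples x) ∣ Nat.card F :=
        AddSubgroup.card_dvd_of_le hle.le
      have h4 : Nat.card (AddSubgroup.zmultiples x) ≠ Nat.card F := fun e' =>
        hle.ne (AddSubgroup.eq_of_le_of_card_ge hle.le e'.ge)
      have h5 := Nat.card_pos (α := F)
      have h9' : (9 : ℕ).divisors = {1, 3, 9} := by decide
      have hm : ∀ d, d ∣ 9 → d = 1 ∨ d = 3 ∨ d = 9 := fun d hd' => by
        have := Nat.mem_divisors.2 ⟨hd', by norm_num⟩
        rw [h9'] at this
        simpa using this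
      have h6 := Nat.le_of_dvd h5 h3
      rw [hW, h9]
      rcases hm _ hd with e1 | e1 | e1 <;> rcases hm _ (h3.trans hd) with e2 | e2 | e2 <;> omega
    refine hk2 ⟨haM, mem_ker.2 (AddMonoidHom.ext fun v => ?_)⟩
    have : v ∈ F := by rw [hFtop]; trivial
    exact this
  · obtain ⟨p, hp⟩ := TripleBase.exists_triple φ hirr.cr
    refine ⟨{e 0, e (p 0), e (p 1), e (p 2)}, Finset.card_le_four, fun h => absurd h h9,
      fun a ha => ?_⟩
    have h0 := ha (e 0) (by simp)
    obtain ⟨haM, h1⟩ := hfix (p 0) a h0 (ha _ (by simp))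
    obtain ⟨-, h2⟩ := hfix (p 1) a h0 (ha _ (by simp))
    obtain ⟨-, h3⟩ := hfix (p 2) a h0 (ha _ (by simp))
    refine hk2 ⟨haM, mem_ker.2 (hp a fun i => ?_)⟩
    fin_cases i <;> assumption

end CfsgLib.DlStab
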